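import Cfsg.Agent.Lib.BinaryOneClass.Points
import Cfsg.Agent.Lib.BinaryPSL.Positive
/-!
# `PSU₃(q)` on the cosets of the centre of a Sylow 2-subgroup is binary (owner: helper88, for S5735)
-/

set_option autoImplicit false

namespace Cfsg.Agent.BinaryOneClass

open Cfsg.Agent.Unitary

variable {F : Type} [Field F] [Fintype F] {q : ℕ}

theorem binary_centre (M : Model F q) (P : Sylow 2 (Cfsg.PSU 3 F q)) :
    BinaryPSL.Binary ((Subgroup.center (P : Subgroup (Cfsg.PSU 3 F q))).map
      (P : Subgroup (Cfsg.PSU 3 F q)).subtype) := by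
  obtain ⟨p, hp⟩ := center_sylow M P
  set H := (Subgroup.center (P : Subgroup (Cfsg.PSU 3 F q))).map
    (P : Subgroup (Cfsg.PSU 3 F q)).subtype
  have hc : ∀ g x : Cfsg.PSU 3 F q, g⁻¹ * x * g ∈ H ↔
      x * x = 1 ∧ act M.card x (act M.card g p) = act M.card g p := by
    intro g x
    rw [hp, ← BinaryPSL.conj_mul_eq, BinaryPSL.conj_eq_one_iff,
      show act M.card (g⁻¹ * x * g) p = p ↔ act M.card x (act M.card g p) = act M.card g p by
        rw [act_mul, act_mul]
        exact ⟨fun h => by conv_rhs => rw [← h, act_act_inv],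
          fun h => by rw [h, act_inv_act]⟩]
  apply BinaryPSL.binary_of_triangle_free
  · intro a b c g₀ g₁ g₂ ha hb hc' habc hy
    obtain ⟨y, hy0, hy1⟩ := hy
    rw [hc] at ha hb hc' hy0 hy1
    by_contra hcon
    push Not at hcon
    obtain ⟨ha1, hb1, hc1⟩ := hcon
    have hbc : b * c = c * b := by
      have h : b * c * (b * c) = 1 := habc ▸ ha.1
      rw [eq_inv_of_mul_eq_one_left h, mul_inv_rev, inv_eq_of_mul_eq_one_right hb.1,
        inv_eq_of_mul_eq_one_right hc'.1]
    have hab : b * a = a * b := by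
      rw [habc, ← mul_assoc, mul_assoc b c b, ← hbc, ← mul_assoc]
    have hpts : act M.card g₁ p = act M.card g₀ p :=
      fix_unique M (k := 1) (by rw [pow_one, sq, ha.1]) ha1
        (commute_point M hb.1 ha.1 hb1 hab hb.2) ha.2
    exact hy1 (hpts ▸ hy0)
  · intro e g₀ g₁ h0 h1 he y hy
    rw [hc] at h0 h1 hy ⊢
    rwa [← fix_unique M (k := 1) (by rw [pow_one, sq, h0.1]) he h0.2 h1.2]

end Cfsg.Agent.BinaryOneClass
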