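import Cfsg.Agent.Lib.BinaryPSL.Basic
import Cfsg.Agent.Lib.Involution.StronglyEmbedded
/-!
# Binary coset actions of groups with one class of involutions (owner: helper88, for S5735)

* `extend` : the binary property for maps on sets of points;
* `commute_fix` : commuting involutions fix the same points;
* `inverted_fix` : a fixed point of a product of two involutions is fixed by both,
  unless they fix the same points;
* `exists_stronglyEmbedded` : the stabiliser of the fixed points of an involution is strongly embedded;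
* `binary_congr` : transport along isomorphisms.
-/

set_option autoImplicit false

open MulAction

namespace Cfsg.Agent.BinaryOneClass

open Cfsg.Agent.BinaryPSL (Binary)

variable {G : Type*} [Group G] [Finite G] {H : Subgroup G}

/-- A binary action realises every map which is realised on pairs. -/
theorem extend (hB : Binary H) (σ : G ⧸ H → G ⧸ H) (S : Set (G ⧸ H))
    (hp : ∀ x ∈ S, ∀ y ∈ S, ∃ g : G, g • x = σ x ∧ g • y = σ y) :
    ∃ g : G, ∀ x ∈ S, g • x = σ x := by
  rcases Set.subsingleton_or_nontrivial S with h | h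
  · rcases S.eq_empty_or_nonempty with h' | ⟨x, hx⟩
    · exact ⟨1, fun x hx => absurd hx (by simp [h'])⟩
    · obtain ⟨g, hg, -⟩ := hp x hx x hx
      exact ⟨g, fun y hy => h hx hy ▸ hg⟩
  · classical
    haveI : Fintype S := Fintype.ofFinite S
    let e := Fintype.equivFin S
    have hn : 2 ≤ Fintype.card S := by
      haveI : Nontrivial S := h.coe_sort
      exact Fintype.one_lt_card
    obtain ⟨g, hg⟩ := hB _ (fun i => (e.symm i : G ⧸ H)) (fun i => σ (e.symm i)) hn
      fun i j _ => hp _ (e.symm i).2 _ (e.symm j).2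
    exact ⟨g, fun x hx => by simpa using hg (e ⟨x, hx⟩)⟩

/-- The fixed points of conjugate elements are equally many. -/
theorem card_fixed_conj {s t : G} (h : IsConj s t) :
    (fixedBy (G ⧸ H) s).ncard = (fixedBy (G ⧸ H) t).ncard := by
  obtain ⟨g, rfl⟩ := isConj_iff.1 h
  rw [← Set.ncard_image_of_injective (fixedBy (G ⧸ H) s) (MulAction.injective g)]
  congr 1
  ext x
  simp only [Set.mem_image, mem_fixedBy]
  constructor
  · rintro ⟨y, hy, rfl⟩
    rw [mul_smul, mul_smul, inv_smul_smul, hy]
  · intro hx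
    refine ⟨g⁻¹ • x, ?_, smul_inv_smul _ _⟩
    rw [mul_smul, mul_smul] at hx
    exact (eq_inv_smul_iff).2 hx

/-- The involution in the cyclic group of an element of even order. -/
theorem exists_pow_involution {g : G} (h : Even (orderOf g)) : ∃ k : ℕ, orderOf (g ^ k) = 2 := by
  refine ⟨orderOf g / 2, ?_⟩
  obtain ⟨m, hm⟩ := h
  have hpos := orderOf_pos g
  rw [hm, show (m + m) / 2 = m by omega]
  refine Involution.orderOf_of_sq (by rw [← pow_add, ← hm, pow_orderOf_eq_one]) ?_
  exact pow_ne_one_of_lt_orderOf (by omega) (by omega)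

theorem smul_pow_fixed {g : G} {x : G ⧸ H} (h : g • x = x) : ∀ k : ℕ, g ^ k • x = x
  | 0 => by simp
  | k + 1 => by rw [pow_succ, mul_smul, h, smul_pow_fixed h k]

variable (hone : ∀ s t : G, orderOf s = 2 → orderOf t = 2 → IsConj s t)
include hone

/-- An element fixing the fixed points of an involution, of even order, has an involution with
the same fixed points. -/
theorem eq_of_fix_sup {g t : G} (ht : orderOf t = 2) (hg : Even (orderOf g)) {X : Set (G ⧸ H)}
    (htX : fixedBy (G ⧸ H) t ⊆ X) (hgX : ∀ x ∈ X, g • x = x) : X ⊆ fixedBy (G ⧸ H) t := by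
  obtain ⟨k, hk⟩ := exists_pow_involution hg
  have hsub : X ⊆ fixedBy (G ⧸ H) (g ^ k) := fun x hx => smul_pow_fixed (hgX x hx) k
  have h := Set.eq_of_subset_of_ncard_le (htX.trans hsub)
    (card_fixed_conj (hone t (g ^ k) ht hk)).ge
  rw [h]; exact hsub

/-- Commuting involutions fix the same points. -/
theorem commute_fix (hB : Binary H) {s t : G} (hs : orderOf s = 2) (ht : orderOf t = 2)
    (hst : s * t = t * s) {x : G ⧸ H} (hx : s • x = x) : t • x = x := by
  classical
  by_cases hne : s = t
  · subst hne; exact hx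
  have hu : orderOf (s * t) = 2 := by
    refine Involution.orderOf_of_sq ?_ fun h => hne ?_
    · rw [mul_assoc, ← mul_assoc t, ← hst, mul_assoc s t t, Involution.mul_self ht, mul_one,
        Involution.mul_self hs]
    · rw [eq_inv_of_mul_eq_one_left h, Involution.inv_eq ht]
  have hs2 : ∀ y : G ⧸ H, s • s • y = y := fun y => by rw [smul_smul, Involution.mul_self hs, one_smul]
  have ht2 : ∀ y : G ⧸ H, t • t • y = y := fun y => by rw [smul_smul, Involution.mul_self ht, one_smul]
  have hcm : ∀ y : G ⧸ H, s • t • y = t • s • y := fun y => by rw [smul_smul, smul_smul, hst]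
  by_contra hcon
  let σ : G ⧸ H → G ⧸ H := fun y => if s • y = y then t • y else y
  have hA : ∀ y, s • y = y → σ y = t • y := fun y h => if_pos h
  have hB' : ∀ y, t • y = y → σ y = y := fun y h => by
    by_cases h' : s • y = y
    · rw [hA y h', h]
    · exact if_neg h'
  have hC' : ∀ y, (s * t) • y = y → σ y = y := fun y h => by
    by_cases h' : s • y = y
    · rw [hA y h']
      rw [mul_smul, hcm, h'] at h
      exact h
    · exact if_neg h'
  obtain ⟨g, hg⟩ := extend hB σ
    {y | s • y = y ∨ t • y = y ∨ (s * t) • y = y} (by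
      have key : ∀ y z : G ⧸ H, s • y = y → t • z = z ∨ (s * t) • z = z →
          ∃ g : G, g • y = σ y ∧ g • z = σ z := by
        rintro y z hy (hz | hz)
        · exact ⟨t, (hA y hy).symm, by rw [hB' z hz, hz]⟩
        · exact ⟨s * t, by rw [hA y hy, mul_smul, hcm, hy], by rw [hC' z hz, hz]⟩
      have idc : ∀ z : G ⧸ H, t • z = z ∨ (s * t) • z = z → σ z = z := fun z h =>
        h.elim (hB' z) (hC' z)
      rintro y (hy | hy) z (hz | hz)
      · exact ⟨t, (hA y hy).symm, (hA z hz).symm⟩
      · exact key y z hy hz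
      · obtain ⟨g, h1, h2⟩ := key z y hz hy
        exact ⟨g, h2, h1⟩
      · exact ⟨1, by rw [one_smul, idc y hy], by rw [one_smul, idc z hz]⟩)
  have hgx : g • x = t • x := by rw [hg x (Or.inl hx), hA x hx]
  have hgx2 : g • t • x = x := by
    rw [hg (t • x) (Or.inl (by rw [hcm, hx])), hA _ (by rw [hcm, hx]), ht2]
  have heven : Even (orderOf g) := by
    by_contra h
    obtain ⟨m, hm⟩ := Nat.not_even_iff_odd.1 h
    have h2 : (g ^ 2) • x = x := by rw [pow_two, mul_smul, hgx, hgx2]
    have h3 := smul_pow_fixed h2 (m + 1)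
    rw [← pow_mul, show 2 * (m + 1) = (2 * m + 1) + 1 by ring, pow_succ, ← hm,
      pow_orderOf_eq_one, one_mul, hgx] at h3
    exact hcon h3
  have hsub : {y : G ⧸ H | t • y = y ∨ (s * t) • y = y} ⊆ fixedBy (G ⧸ H) t :=
    eq_of_fix_sup hone ht heven (fun y hy => Or.inl hy) fun y hy => by
      rcases hy with hy | hy
      · rw [hg y (Or.inr (Or.inl hy)), hB' y hy]
      · rw [hg y (Or.inr (Or.inr hy)), hC' y hy]
  have hCB : fixedBy (G ⧸ H) (s * t) = fixedBy (G ⧸ H) t :=
    Set.eq_of_subset_of_ncard_le (fun y hy => hsub (Or.inr hy))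
      (card_fixed_conj (hone (s * t) t hu ht)).ge
  have hBA : fixedBy (G ⧸ H) t ⊆ fixedBy (G ⧸ H) s := fun y hy => by
    have h1 : (s * t) • y = y := (Set.ext_iff.1 hCB y).2 hy
    rwa [mul_smul, mem_fixedBy.1 hy] at h1
  have hAB := Set.eq_of_subset_of_ncard_le hBA (card_fixed_conj (hone s t hs ht)).le
  exact hcon ((Set.ext_iff.1 hAB x).2 hx)

/-- A point fixed by the product of two involutions with different fixed points is fixed by both. -/
theorem inverted_fix (hB : Binary H) {s t : G} (hs : orderOf s = 2) (ht : orderOf t = 2)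
    (hne : fixedBy (G ⧸ H) s ≠ fixedBy (G ⧸ H) t) {x : G ⧸ H} (hx : (s * t) • x = x) :
    t • x = x := by
  classical
  have hs2 : ∀ y : G ⧸ H, s • s • y = y := fun y => by rw [smul_smul, Involution.mul_self hs, one_smul]
  have ht2 : ∀ y : G ⧸ H, t • t • y = y := fun y => by rw [smul_smul, Involution.mul_self ht, one_smul]
  -- `s` and `t` agree on the fixed points of `s * t`
  have hagree : ∀ y : G ⧸ H, (s * t) • y = y → t • y = s • y := fun y h => by
    rw [mul_smul] at h
    conv_rhs => rw [← h, hs2]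
  have hinv : ∀ y : G ⧸ H, (s * t) • y = y → (s * t) • (s • y) = s • y := fun y h => by
    rw [mul_smul, ← hagree y h, ht2, hagree y h]
  let σ : G ⧸ H → G ⧸ H := fun y => if (s * t) • y = y then s • y else y
  have hC : ∀ y, (s * t) • y = y → σ y = s • y := fun y h => if_pos h
  have hAB : ∀ y, s • y = y ∨ t • y = y → σ y = y := fun y h => by
    by_cases h' : (s * t) • y = y
    · rw [hC y h']
      rcases h with h | h
      · exact h
      · rw [← hagree y h', h]
    · exact if_neg h'
  obtain ⟨g, hg⟩ := extend hB σ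
    {y | (s * t) • y = y ∨ s • y = y ∨ t • y = y} (by
      have key : ∀ y z : G ⧸ H, (s * t) • y = y → s • z = z ∨ t • z = z →
          ∃ g : G, g • y = σ y ∧ g • z = σ z := by
        rintro y z hy (hz | hz)
        · exact ⟨s, (hC y hy).symm, by rw [hAB z (Or.inl hz), hz]⟩
        · exact ⟨t, by rw [hagree y hy, hC y hy], by rw [hAB z (Or.inr hz), hz]⟩
      rintro y (hy | hy) z (hz | hz)
      · exact ⟨s, (hC y hy).symm, (hC z hz).symm⟩
      · exact key y z hy hz
      · obtain ⟨g, h1, h2⟩ := key z y hz hy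
        exact ⟨g, h2, h1⟩
      · exact ⟨1, by rw [one_smul, hAB y hy], by rw [one_smul, hAB z hz]⟩)
  have hodd : Odd (orderOf g) := by
    by_contra h
    have hsub := eq_of_fix_sup hone hs (Nat.not_odd_iff_even.1 h)
      (X := {y : G ⧸ H | s • y = y ∨ t • y = y}) (fun y hy => Or.inl hy) fun y hy => by
        rcases hy with hy | hy
        · rw [hg y (Or.inr (Or.inl hy)), hAB y (Or.inl hy)]
        · rw [hg y (Or.inr (Or.inr hy)), hAB y (Or.inr hy)]
    exact hne (Set.eq_of_subset_of_ncard_le (fun y hy => hsub (Or.inr hy))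
      (card_fixed_conj (hone t s ht hs)).ge).symm
  have hgx : g • x = s • x := by rw [hg x (Or.inl hx), hC x hx]
  have hgx2 : g • s • x = x := by rw [hg _ (Or.inl (hinv x hx)), hC _ (hinv x hx), hs2]
  obtain ⟨m, hm⟩ := hodd
  have h2 : (g ^ 2) • x = x := by rw [pow_two, mul_smul, hgx, hgx2]
  have h3 := smul_pow_fixed h2 (m + 1)
  rw [← pow_mul, show 2 * (m + 1) = (2 * m + 1) + 1 by ring, pow_succ, ← hm, pow_orderOf_eq_one,
    one_mul, hgx] at h3
  rw [hagree x hx, h3]

/-- An involution of an even-order stabiliser, and its fixed points. -/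
theorem exists_stronglyEmbedded [IsSimpleGroup G] (hB : Binary H) (hH : H ≠ ⊤)
    (heven : Even (Nat.card H)) : ∃ M : Subgroup G, Cfsg.IsStronglyEmbedded M := by
  obtain ⟨s, hsH, hs⟩ := Involution.exists_involution_mem heven
  set A := fixedBy (G ⧸ H) s with hA
  have hx0 : ((1 : G) : G ⧸ H) ∈ A := by
    rw [hA, mem_fixedBy, BinaryPSL.smul_mk_eq]; simpa using hsH
  let M : Subgroup G :=
    { carrier := {g | ∀ y, g • y ∈ A ↔ y ∈ A}
      one_mem' := fun y => by rw [one_smul]
      mul_mem' := fun {a b} ha hb y => by rw [mul_smul, ha, hb]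
      inv_mem' := fun {a} ha y => by rw [← ha (a⁻¹ • y), smul_inv_smul] }
  have hM : ∀ g : G, g ∈ M ↔ ∀ y, g • y ∈ A ↔ y ∈ A := fun g => Iff.rfl
  have hcent : ∀ g : G, g * s = s * g → g ∈ M := fun g hg => (hM g).2 fun y => by
    rw [hA, mem_fixedBy, mem_fixedBy, smul_smul, ← hg, mul_smul, smul_left_cancel_iff]
  have hinvol : ∀ t ∈ M, orderOf t = 2 → fixedBy (G ⧸ H) t = A := by
    intro t htM ht
    have hcomm : ∀ u v : G, orderOf u = 2 → orderOf v = 2 → u * v = v * u →
        fixedBy (G ⧸ H) u = fixedBy (G ⧸ H) v := fun u v hu hv h => Set.ext fun y =>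
      ⟨fun hy => commute_fix hone hB hu hv h hy, fun hy => commute_fix hone hB hv hu h.symm hy⟩
    rcases Nat.even_or_odd (orderOf (s * t)) with he | ho
    · obtain ⟨z, hz, hzs, hzt, -⟩ :=
        Involution.exists_commuting_involution hs ht he
      rw [← hcomm z t hz ht hzt.eq, hcomm z s hz hs hzs.eq, hA]
    · obtain ⟨d, hd, hdt⟩ :=
        Involution.exists_conj_of_odd hs ht ho
      have hdM : d ∈ M := by
        refine (Subgroup.closure_le M).2 ?_ hd
        rintro _ (rfl | rfl)
        · exact hcent _ rfl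
        · exact htM
      ext y
      rw [← hdt, mem_fixedBy, mul_smul, mul_smul, smul_eq_iff_eq_inv_smul]
      constructor
      · intro h
        have : (d⁻¹ • y) ∈ A := by rw [hA, mem_fixedBy]; exact h
        exact ((hM _).1 (M.inv_mem hdM) y).1 this
      · intro h
        exact mem_fixedBy.1 (((hM _).1 (M.inv_mem hdM) y).2 h)
  refine ⟨M, fun htop => ?_, ?_, fun g hg => ?_⟩
  · have hall : ∀ y : G ⧸ H, y ∈ A := fun y => by
      obtain ⟨g, rfl⟩ := MulAction.exists_smul_eq G ((1 : G) : G ⧸ H) y
      exact ((hM g).1 (htop ▸ Subgroup.mem_top g) _).2 hx0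
    have hcore : s ∈ H.normalCore := fun g => by
      have := hall (QuotientGroup.mk g⁻¹)
      rw [hA, mem_fixedBy, BinaryPSL.smul_mk_eq] at this
      simpa using this
    rcases H.normalCore_normal.eq_bot_or_eq_top with e | e
    · rw [e, Subgroup.mem_bot] at hcore
      exact Involution.ne_one hs hcore
    · exact hH (eq_top_iff.2 (e ▸ H.normalCore_le))
  · have hsM : s ∈ M := hcent s rfl
    rw [even_iff_two_dvd, ← hs]
    exact Subgroup.orderOf_dvd_natCard M hsM
  · rw [Involution.odd_iff_no_involution]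
    intro t ht ht2
    obtain ⟨htM, htg⟩ := Subgroup.mem_inf.1 ht
    rw [Involution.mem_map_conj_iff] at htg
    have h1 := hinvol t htM ht2
    have h2 := hinvol _ htg (by
      simpa using (Involution.orderOf_conj g⁻¹ t).trans ht2)
    refine hg ((hM g).2 fun y => ?_)
    have h3 := Set.ext_iff.1 h2 y
    rw [mem_fixedBy, mul_smul, mul_smul, inv_smul_eq_iff, ← mem_fixedBy, h1] at h3
    exact h3

omit [Finite G] hone in
theorem binary_image {B : Type*} [Group B] (φ : G ≃* B) {K : Subgroup G} {L : Subgroup B}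
    (hL : L = K.map φ.toMonoidHom) (hB : Binary K) : Binary L := by
  have hmem : ∀ x : G, φ x ∈ L ↔ x ∈ K := fun x => by simp [hL]
  have key : ∀ g s t : G, g • (QuotientGroup.mk s : G ⧸ K) = QuotientGroup.mk t ↔
      φ g • (QuotientGroup.mk (φ s) : B ⧸ L) = QuotientGroup.mk (φ t) := by
    intro g s t
    rw [MulAction.Quotient.smul_mk, MulAction.Quotient.smul_mk, QuotientGroup.eq, QuotientGroup.eq,
      smul_eq_mul, smul_eq_mul, ← map_mul, ← map_inv, ← map_mul, hmem]
  intro n I J hn hp
  choose sI hI using fun i => QuotientGroup.mk_surjective (I i)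
  choose sJ hJ using fun i => QuotientGroup.mk_surjective (J i)
  obtain ⟨g, hg⟩ := hB n (fun i => QuotientGroup.mk (φ.symm (sI i)))
    (fun i => QuotientGroup.mk (φ.symm (sJ i))) hn fun i j hij => by
    obtain ⟨g, h1, h2⟩ := hp i j hij
    refine ⟨φ.symm g, ?_, ?_⟩ <;> rw [key] <;> simp only [MulEquiv.apply_symm_apply, hI, hJ]
    exacts [h1, h2]
  refine ⟨φ g, fun i => ?_⟩
  have := (key g (φ.symm (sI i)) (φ.symm (sJ i))).1 (hg i)
  simpa only [MulEquiv.apply_symm_apply, hI, hJ] using this

omit [Finite G] hone in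
/-- Binarity is invariant under isomorphisms. -/
theorem binary_congr {G' : Type*} [Group G'] (f : G ≃* G') {H : Subgroup G} :
    Binary (H.map f.toMonoidHom) ↔ Binary H := by
  refine ⟨binary_image f.symm ?_, binary_image f rfl⟩
  rw [Subgroup.map_map]
  ext x
  simp

end Cfsg.Agent.BinaryOneClass
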