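import Cfsg.Agent.Lib.BinaryOneClass.Points
/-!
# Coordinates for `SU₃(q)`, `q` even, in the basis `r, e, s` (owner: helper88, for S5735)

* `vec3` and the actions of `sylThree` and of `tElt` on it;
* `dgEl`, `cycEl`, `swEl` : diagonal, cyclic and monomial elements in the standard basis.
-/

set_option autoImplicit false
set_option linter.unusedSectionVars false

namespace Cfsg.Agent.BinaryOneClass

open Cfsg.Agent.Unitary Cfsg.Agent.SuzukiRankOne
open scoped Matrix

variable {F : Type} [Field F] [Fintype F] {q : ℕ}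

/-- The vector with coordinates `x, y, z` in the basis `r, e, s`. -/
def vec3 (l x y z : F) : Fin 3 → F := x • rVec F + y • eVec F + z • sVec l

theorem vec3_apply (l x y z : F) : vec3 l x y z = ![x + z * l, x + z * (l + 1), y] := by
  ext i
  fin_cases i <;> simp [vec3, rVec, eVec, sVec]

variable (hF : Fintype.card F = q ^ 2) (h2 : (2 : F) = 0) {l : F} (hl : l + l ^ q = 1)

include h2 in
theorem vec3_inj {x y z x' y' z' : F} (h : vec3 l x y z = vec3 l x' y' z') :
    x = x' ∧ y = y' ∧ z = z' := by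
  rw [vec3_apply, vec3_apply] at h
  have h0 := congrFun h 0
  have h1 := congrFun h 1
  have h3 := congrFun h 2
  simp at h0 h1 h3
  have hz : z = z' := by linear_combination h1 - h0
  exact ⟨by linear_combination h0 - l * hz, h3, hz⟩

theorem smul_vec3 (c x y z : F) : c • vec3 l x y z = vec3 l (c * x) (c * y) (c * z) := by
  simp [vec3, smul_add, smul_smul]

theorem vec3_r : vec3 l (1 : F) 0 0 = rVec F := by simp [vec3]
theorem vec3_e : vec3 l (0 : F) 1 0 = eVec F := by simp [vec3]
theorem vec3_s : vec3 l (0 : F) 0 1 = sVec l := by simp [vec3]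

include hF h2 hl in
theorem exists_vec3 (v : Fin 3 → F) : ∃ x y z, v = vec3 l x y z :=
  ⟨v 0 + (v 0 + v 1) * l, v 2, v 0 + v 1, by
    conv_lhs => rw [decompose hF h2 hl v]
    rw [vec3]; abel⟩

theorem suAct_vec3 (g : Cfsg.SU 3 F q) (x y z : F) :
    suAct g (vec3 l x y z) =
      x • suAct g (rVec F) + y • suAct g (eVec F) + z • suAct g (sVec l) := by
  simp only [vec3, suAct_add, suAct_smul]

include hl in
theorem syl_vec3 (u : sylThree hF h2) (x y z : F) :
    suAct u.1 (vec3 l x y z) =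
      vec3 l (x + y * coordA u ^ q + z * coordB u) (y + z * coordA u) z := by
  rw [suAct_vec3, syl_r, syl_e hF h2 u, syl_s hF h2 u, vec3_apply]
  ext i
  fin_cases i <;> simp [rVec, eVec] <;> ring

theorem tElt_s : suAct (tElt hF h2 hl) (sVec l) = rVec F := by
  conv_lhs => rw [← tElt_r hF h2 hl, ← suAct_mul, tElt_sq, suAct_one]

theorem tElt_e : suAct (tElt hF h2 hl) (eVec F) = eVec F := by
  rw [tElt, suAct_suTransvection, herm_three hF]
  simp [rVec, sVec, eVec, zero_pow_q hF]

theorem tElt_vec3 (x y z : F) :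
    suAct (tElt hF h2 hl) (vec3 l x y z) = vec3 l z y x := by
  rw [suAct_vec3, tElt_r, tElt_s, tElt_e, vec3]
  abel

theorem exists_central {b : F} (hb : b ^ q = b) :
    ∃ u : sylThree hF h2, coordA u = 0 ∧ coordB u = b := by
  refine exists_mk (hF := hF) (h2 := h2) ?_
  rw [hb, zero_pow (Nat.succ_ne_zero q)]
  linear_combination b * h2

/-- A diagonal element. -/
def dgEl (d : Fin 3 → F) (hn : ∀ i, d i ^ (q + 1) = 1) (hd : d 0 * d 1 * d 2 = 1) :
    Cfsg.SU 3 F q :=
  suOfUnitary _ (isUnitary_diagonal hF hn) (by simp [Matrix.det_diagonal, Fin.prod_univ_three, hd])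

theorem dgEl_act (d : Fin 3 → F) (hn : ∀ i, d i ^ (q + 1) = 1) (hd : d 0 * d 1 * d 2 = 1)
    (x : Fin 3 → F) : suAct (dgEl hF d hn hd) x = fun i => d i * x i := by
  ext i
  simp [suAct, dgEl, suOfUnitary_val, Matrix.mulVec_diagonal]

/-- The cyclic permutation of the standard basis. -/
def cycEl : Cfsg.SU 3 F q :=
  suOfUnitary !![0, 0, 1; 1, 0, 0; 0, 1, 0] (fun u v => by
    simp [Cfsg.hermForm, Fin.sum_univ_three, Matrix.mulVec, dotProduct]
    ring) (by simp [Matrix.det_fin_three])

theorem cycEl_act (x : Fin 3 → F) : suAct (cycEl (F := F) (q := q)) x = ![x 2, x 0, x 1] := by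
  show !![(0 : F), 0, 1; 1, 0, 0; 0, 1, 0] *ᵥ x = _
  ext i
  fin_cases i <;> simp [Matrix.mulVec, dotProduct, Fin.sum_univ_three]

/-- The monomial involution exchanging the first two basis vectors up to `c`. -/
def swEl (c : F) (hc : c ^ (q + 1) = 1) : Cfsg.SU 3 F q :=
  suOfUnitary !![0, c, 0; c⁻¹, 0, 0; 0, 0, 1] (fun u v => by
    have hc0 : c ≠ 0 := fun h => by simp [h] at hc
    simp [Cfsg.hermForm, Fin.sum_univ_three, Matrix.mulVec, dotProduct, mul_pow]
    have h1 : c⁻¹ * c⁻¹ ^ q = 1 := by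
      rw [← pow_succ', inv_pow, hc, inv_one]
    rw [pow_succ] at hc
    linear_combination u 1 * v 1 ^ q * hc + u 0 * v 0 ^ q * h1) (by
    have hc0 : c ≠ 0 := fun h => by simp [h] at hc
    simp [Matrix.det_fin_three, hc0]
    linear_combination -h2)

theorem swEl_act (c : F) (hc : c ^ (q + 1) = 1) (x : Fin 3 → F) :
    suAct (swEl (q := q) h2 c hc) x = ![c * x 1, c⁻¹ * x 0, x 2] := by
  show !![0, c, 0; c⁻¹, 0, 0; 0, 0, 1] *ᵥ x = _
  ext i
  fin_cases i <;> simp [Matrix.mulVec, dotProduct, Fin.sum_univ_three]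

end Cfsg.Agent.BinaryOneClass
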