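import Cfsg.Agent.Lib.BinaryOneClass.Forward
import Cfsg.Agent.Lib.BinaryOneClass.Coords
/-!
# The points whose involutions lie in the stabiliser are collinear (owner: helper88, for S5735)

`Ctx.collinear` : with `Full a`, `Full b`, every full point other than `a` is `u • b`, `u` central.
-/

set_option autoImplicit false
set_option linter.unusedSectionVars false

namespace Cfsg.Agent.BinaryOneClass

open Cfsg.Agent.Unitary Cfsg.Agent.SuzukiRankOne

variable {F : Type} [Field F] [Fintype F] {q : ℕ} {M : Model F q}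
  {H : Subgroup (Cfsg.PSU 3 F q)} {l : F} (hl : l + l ^ q = 1)

local notation "A₀" => aPt M.card M.two
local notation "B₀" => bPt M.card M.two hl
local notation "U" => unip M.card M.two

/-- The image of `tElt`. -/
abbrev tP (M : Model F q) (hl : l + l ^ q = 1) : Cfsg.PSU 3 F q := (tElt M.card M.two hl : _)

theorem tP_sq : tP M hl * tP M hl = 1 := by
  show (((tElt M.card M.two hl) * (tElt M.card M.two hl) : Cfsg.SU 3 F q) : Cfsg.PSU 3 F q) = 1
  rw [tElt_sq]; rfl

theorem tP_a : act M.card (tP M hl) A₀ = B₀ := by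
  rw [act_coe, aPt, IsoLine.smul_mk, bPt]
  exact IsoLine.mk_eq_iff.2 ⟨1, by rw [one_smul, tElt_r]⟩

theorem tP_b : act M.card (tP M hl) B₀ = A₀ := by
  rw [← tP_a (M := M) hl, ← act_mul, tP_sq, act_one]

/-- The involutions `t u t` at `b`, `u` central. -/
theorem move_mem (hb : Full M H B₀) (u : sylThree M.card M.two) (hu : coordA u = 0) :
    tP M hl * U u * tP M hl ∈ H := by
  have hu2 : U u * U u = 1 := by rw [← map_mul, (Unitary.sq_eq_one_iff u).2 hu, map_one]
  refine hb _ ?_ ?_
  · simp only [mul_assoc]
    rw [← mul_assoc (tP M hl) (tP M hl), tP_sq, one_mul, ← mul_assoc (U u) (U u), hu2, one_mul,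
      tP_sq]
  · rw [act_mul, act_mul, tP_b, unip_fix, tP_a]

/-- Two points of a line through `a` give `a`. -/
theorem line_closed (hb : Full M H B₀) {u : sylThree M.card M.two} (hu : coordA u = 0) (hu1 : u ≠ 1)
    (h : Full M H (act M.card (U u) B₀)) : Full M H A₀ := by
  have hβ : coordB u ≠ 0 := fun h => hu1 (ext' (hu.trans coord_one.1.symm) (h.trans coord_one.2.symm))
  have hfix : coordB u ^ q = coordB u := by
    have := (coe_eq u).2
    rw [hu, zero_pow (Nat.succ_ne_zero q)] at this
    exact (fixed_iff_trace_zero (h2 := M.two) _).1 this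
  obtain ⟨w, hwA, hwB⟩ := exists_central M.card M.two (b := (coordB u)⁻¹) (by rw [inv_pow, hfix])
  have := full_smul (move_mem hl hb w hwA) h
  suffices e : act M.card (tP M hl * U w * tP M hl) (act M.card (U u) B₀) = A₀ by rwa [e] at this
  simp only [act_mul, act_coe, act_unip, bPt, aPt, IsoLine.smul_mk, IsoLine.mk_eq_iff]
  refine ⟨coordB u, ?_⟩
  rw [← vec3_s (l := l), ← vec3_r (l := l), syl_vec3 M.card M.two hl u, tElt_vec3, syl_vec3 M.card M.two hl w,
    tElt_vec3, smul_vec3]
  simp [hu, hwA, hwB, zero_pow_q M.card, inv_mul_cancel₀ hβ, mul_inv_cancel₀ hβ]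
  congr 1
  linear_combination -M.two

theorem card_full_le (C : Ctx M H) (ha : Full M H A₀) (hb : Full M H B₀)
    {v : sylThree M.card M.two} (hv : coordA v ≠ 0) (hc : Full M H (act M.card (U v) B₀)) :
    q ^ 2 < Nat.card {p : IsoLine 3 F q // Full M H p} := by
  classical
  have hA : ∀ {w : sylThree M.card M.two}, coordA w = 0 → U w ∈ H := fun {w} hw =>
    ha _ (by rw [← map_mul, (Unitary.sq_eq_one_iff w).2 hw, map_one]) (unip_fix M.card M.two w)
  set a := coordA v with hav
  set b := coordB v with hbv
  have hbn : ∀ β : F, β ^ q = β → 1 + β * b ≠ 0 := by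
    intro β hβ h0
    have hβ0 : β ≠ 0 := fun e => by simp [e] at h0
    have hfix : b ^ q = b := by
      have hb' : b = β⁻¹ := by
        rw [eq_comm, inv_eq_iff_eq_inv]
        exact (eq_inv_of_mul_eq_one_left (by linear_combination h0 - M.two))
      rw [hb', inv_pow, hβ]
    have := (coe_eq v).2
    rw [← hbv, (fixed_iff_trace_zero (h2 := M.two) b).2 hfix, ← hav] at this
    exact hv (pow_eq_zero_iff (Nat.succ_ne_zero q) |>.1 this.symm)
  have hP : ∀ β : {β : F // β ^ q = β}, ∃ w : sylThree M.card M.two,
      coordA w = a / (1 + β.1 * b) ∧ Full M H (act M.card (U w) B₀) := by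
    rintro ⟨β, hβ⟩
    obtain ⟨c, hcA, hcB⟩ := exists_central M.card M.two hβ
    have hmem := full_smul (move_mem hl hb c hcA) hc
    have hne : act M.card (tP M hl * U c * tP M hl) (act M.card (U v) B₀) ≠ A₀ := by
      intro e
      simp only [act_mul, act_coe, act_unip, bPt, aPt, IsoLine.smul_mk, IsoLine.mk_eq_iff] at e
      obtain ⟨k, hk⟩ := e
      rw [← vec3_s (l := l), ← vec3_r (l := l), syl_vec3 M.card M.two hl v, tElt_vec3,
        syl_vec3 M.card M.two hl c, tElt_vec3, smul_vec3] at hk
      have := (vec3_inj M.two hk).2.1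
      simp [hcA] at this
      exact hv this.symm
    obtain ⟨w, hw⟩ := exists_unip_move M.card M.two hl hne
    refine ⟨w, ?_, hw ▸ hmem⟩
    simp only [act_mul, act_coe, act_unip, bPt, IsoLine.smul_mk, IsoLine.mk_eq_iff] at hw
    obtain ⟨k, hk⟩ := hw
    rw [← vec3_s (l := l), syl_vec3 M.card M.two hl v, tElt_vec3, syl_vec3 M.card M.two hl c,
      tElt_vec3, syl_vec3 M.card M.two hl w, smul_vec3] at hk
    obtain ⟨-, h1, h2⟩ := vec3_inj M.two hk
    simp [hcA, hcB, zero_pow_q M.card, ← hav, ← hbv] at h1 h2
    rw [eq_div_iff (hbn β hβ)]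
    rw [mul_comm β b]
    linear_combination -(1 + b * β) * h1 + a * h2
  choose w hwA hwF using hP
  have hfull : ∀ o : Option {β : F // β ^ q = β}, ∀ z : Subgroup.center (sylThree M.card M.two),
      Full M H (act M.card (U (z.1 * o.elim 1 w)) B₀) := by
    intro o z
    rw [map_mul, act_mul]
    refine full_smul (hA ((mem_center_iff z.1).1 z.2)) ?_
    cases o with
    | none => simpa [act_one] using hb
    | some β => exact hwF β
  have hinj : Function.Injective
      (fun x : Option {β : F // β ^ q = β} × Subgroup.center (sylThree M.card M.two) =>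
        (⟨_, hfull x.1 x.2⟩ : {p : IsoLine 3 F q // Full M H p})) := by
    rintro ⟨o, z⟩ ⟨o', z'⟩ e
    have e' : act M.card (U (z.1 * o.elim 1 w)) B₀ = act M.card (U (z'.1 * o'.elim 1 w)) B₀ :=
      congrArg Subtype.val e
    have h1 : z.1 * o.elim 1 w = z'.1 * o'.elim 1 w := by
      have h := unip_eq_one M.card M.two hl ((z'.1 * o'.elim 1 w)⁻¹ * (z.1 * o.elim 1 w)) (by
        rw [map_mul, act_mul, e', map_inv, act_inv_act])
      exact (inv_mul_eq_one.1 h).symm
    have hA' := congrArg coordA h1
    rw [(coord_mul _ _).1, (coord_mul _ _).1, (mem_center_iff z.1).1 z.2,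
      (mem_center_iff z'.1).1 z'.2, zero_add, zero_add] at hA'
    have ho : o = o' := by
      cases o with
      | none => cases o' with
        | none => rfl
        | some β =>
          simp [coord_one.1, hwA] at hA'
          exact absurd hA'.symm (div_ne_zero hv (hbn β.1 β.2))
      | some β => cases o' with
        | none =>
          simp [coord_one.1, hwA, hv, hbn β.1 β.2] at hA'
        | some β' =>
          simp [hwA] at hA'
          rw [div_eq_div_iff (hbn β.1 β.2) (hbn β'.1 β'.2)] at hA'
          have hb0 : b ≠ 0 := fun h0 => hv (by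
            have := (coe_eq v).2
            rw [← hbv, h0, zero_pow_q M.card, add_zero, ← hav] at this
            exact pow_eq_zero_iff (Nat.succ_ne_zero q) |>.1 this.symm)
          have : a * b * (β'.1 - β.1) = 0 := by linear_combination hA'
          simp [hv, hb0, sub_eq_zero] at this
          rw [Subtype.ext this.symm]
    subst ho
    rw [Subtype.ext (mul_right_cancel h1)]
  haveI : Finite (IsoLine 3 F q) := Subtype.finite
  have h := Nat.card_le_card_of_injective _ hinj
  rw [Nat.card_prod, Finite.card_option, card_center] at h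
  rw [card_fixed M.card] at h
  have := two_le_q M.card
  nlinarith

theorem Ctx.collinear (C : Ctx M H) (ha : Full M H A₀) (hb : Full M H B₀)
    {v : sylThree M.card M.two} (hc : Full M H (act M.card (U v) B₀)) : coordA v = 0 := by
  classical
  by_contra hv
  have hbig := card_full_le hl C ha hb hv hc
  refine not_all_involutions C fun x hx => ?_
  by_cases hx1 : x = 1
  · exact hx1 ▸ H.one_mem
  obtain ⟨p, hp⟩ := exists_fix M (x := x) (k := 1) (by rw [pow_one, sq, hx])
  by_contra hxH
  obtain ⟨g, rfl⟩ := exists_map_point M.card M.two p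
  set H' := cj g⁻¹ H
  have hiff : ∀ r, Full M H' r ↔ Full M H (act M.card g r) := fun r => by
    conv_lhs => rw [← act_inv_act M.card g r]
    exact full_cj
  have hna : ¬ Full M H' A₀ := fun h => hxH ((hiff _).1 h x hx hp)
  have hsel : ∀ r : {r // Full M H r}, ∃ u, act M.card (U u) B₀ = act M.card g⁻¹ r.1 := fun r =>
    exists_unip_move M.card M.two hl fun e => hna ((hiff _).2 (by
      rw [← e, act_act_inv]; exact r.2))
  choose u hu using hsel
  have : ¬ Function.Injective fun r => coordA (u r) := fun hi => by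
    have := Nat.card_le_card_of_injective _ hi
    rw [Nat.card_eq_fintype_card (α := F), M.card] at this
    omega
  obtain ⟨r, r', he, hne⟩ := Function.not_injective_iff.1 this
  have hr : ∀ i : {r // Full M H r}, Full M H' (act M.card (U (u i)) B₀) := fun i => by
    rw [hu i, hiff, act_act_inv]; exact i.2
  obtain ⟨w, hw⟩ : ∃ w, w = (u r)⁻¹ * u r' := ⟨_, rfl⟩
  have hwA : coordA w = 0 := by
    have h := (coord_mul (u r) w).1
    rw [hw, mul_inv_cancel_left, ← hw] at h
    linear_combination -h - he
  have hw1 : w ≠ 1 := fun e => hne (by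
    rw [hw, inv_mul_eq_one] at e
    refine Subtype.ext ?_
    have h1 := hu r
    rw [e, hu r'] at h1
    exact (act_inj M.card g⁻¹ h1).symm)
  refine hna ?_
  have h1 : Full M (cj (U (u r))⁻¹ H') (act M.card (U (u r))⁻¹ (act M.card (U (u r)) B₀)) :=
    full_cj.2 (hr r)
  rw [act_inv_act] at h1
  have h3 : Full M (cj (U (u r))⁻¹ H') (act M.card (U (u r))⁻¹ (act M.card (U (u r')) B₀)) :=
    full_cj.2 (hr r')
  rw [← act_mul, ← map_inv, ← map_mul, ← hw] at h3
  have h4 := line_closed hl h1 hwA hw1 (by simpa using h3)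
  have h5 : Full M (cj (U (u r))⁻¹ H') (act M.card (U (u r))⁻¹ A₀) := by
    rwa [act_inv M.card (unip_fix M.card M.two (u r))]
  exact full_cj.1 h5

end Cfsg.Agent.BinaryOneClass
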