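import Cfsg.Agent.Lib.BinaryOneClass.Coords
/-!
# Elements of trace zero in `SU₃(q)` (owner: helper88, for S5735)

* `cube_of_trace` : they have cube one;
* `exists_cube` : for `u` in `sylThree` outside the centre some `g` moving the base point has
  `g ^ 3 = (u g) ^ 3 = 1`.
-/

set_option autoImplicit false
set_option linter.unusedSectionVars false

namespace Cfsg.Agent.BinaryOneClass

open Cfsg.Agent.Unitary Cfsg.Agent.SuzukiRankOne
open scoped Matrix

variable {F : Type} [Field F] [Fintype F] {q : ℕ}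

theorem sq_identity (A : Matrix (Fin 3) (Fin 3) F) :
    A * A = A.trace • A - A.adjugate.trace • (1 : Matrix (Fin 3) (Fin 3) F) + A.adjugate := by
  ext i j
  fin_cases i <;> fin_cases j <;>
    simp [Matrix.mul_apply, Fin.sum_univ_three, Matrix.trace_fin_three, Matrix.adjugate_fin_three] <;>
    ring

theorem cube_of_trace (M : Model F q) (k : Cfsg.SU 3 F q)
    (h : ((k : Matrix.SpecialLinearGroup (Fin 3) F) : Matrix (Fin 3) (Fin 3) F).trace = 0) :
    (k : Cfsg.PSU 3 F q) ^ 3 = 1 := by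
  set A := ((k : Matrix.SpecialLinearGroup (Fin 3) F) : Matrix (Fin 3) (Fin 3) F) with hA
  have hinv : ∀ i : Fin 3, A.adjugate i i = A i i ^ q := by
    intro i
    have h1 := suAct_herm k⁻¹ (Pi.single i 1) (suAct k (Pi.single i 1))
    rw [suAct_inv_suAct, hermForm_single_right M.card, hermForm_single_left] at h1
    have e1 : suAct k⁻¹ (Pi.single i 1) i = A.adjugate i i := by
      rw [suAct, InvMemClass.coe_inv, Matrix.SpecialLinearGroup.coe_inv]
      simp [hA]
    have e2 : suAct k (Pi.single i 1) i = A i i := by simp [suAct, hA]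
    rwa [e1, e2] at h1
  have htr : A.adjugate.trace = 0 := by
    rw [Matrix.trace_fin_three, hinv, hinv, hinv, ← add_pow_q M.card, ← add_pow_q M.card]
    rw [Matrix.trace_fin_three] at h
    rw [h, zero_pow_q M.card]
  have hdet : A.det = 1 := (k : Matrix.SpecialLinearGroup (Fin 3) F).2
  have h3 : A * A * A = 1 := by
    rw [sq_identity A, h, htr, zero_smul, zero_smul, sub_zero, zero_add, Matrix.adjugate_mul, hdet,
      one_smul]
  have : k ^ 3 = 1 := by
    refine Subtype.ext (Subtype.ext ?_)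
    rw [SubmonoidClass.coe_pow, Matrix.SpecialLinearGroup.coe_pow, pow_succ, pow_succ, pow_one]
    exact h3
  rw [← QuotientGroup.mk_pow, this, QuotientGroup.mk_one]

/-- The element `r ↦ λ s`, `e ↦ ν e`, `s ↦ μ r`. -/
def wMat (l lam μ ν : F) : Matrix (Fin 3) (Fin 3) F :=
  !![(1 + l) * l * lam + μ, l * l * lam + μ, 0;
    (1 + l) * (1 + l) * lam + μ, l * (1 + l) * lam + μ, 0;
    0, 0, ν]

theorem wMat_vec3 (h2 : (2 : F) = 0) (l lam μ ν x y z : F) :
    wMat l lam μ ν *ᵥ vec3 l x y z = vec3 l (μ * z) (ν * y) (lam * x) := by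
  rw [vec3_apply, vec3_apply]
  ext i
  fin_cases i <;> simp [wMat, Matrix.mulVec, dotProduct, Fin.sum_univ_three]
  · linear_combination (x * l * l * lam + x * μ + z * l * l * lam * (1 + l) + z * l * μ) * h2
  · linear_combination (x * l * lam + x * l * l * lam + x * μ + z * l * lam * (1 + 2 * l + l * l) +
      z * l * μ) * h2

theorem herm_vec3 (hF : Fintype.card F = q ^ 2) (h2 : (2 : F) = 0) {l : F} (hl : l + l ^ q = 1)
    (x y z x' y' z' : F) :
    Cfsg.hermForm 3 F q (vec3 l x y z) (vec3 l x' y' z') = x * z' ^ q + y * y' ^ q + z * x' ^ q := by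
  rw [vec3_apply, vec3_apply, herm_three hF]
  simp [add_pow_q hF, mul_pow]
  linear_combination z * z' ^ q * hl +
    (x * x' ^ q + x * z' ^ q * l ^ q + z * l * x' ^ q + z * z' ^ q * l * l ^ q + z * z' ^ q) * h2

theorem wMat_mem (hF : Fintype.card F = q ^ 2) (h2 : (2 : F) = 0) {l : F} (hl : l + l ^ q = 1)
    {lam μ ν : F} (h1 : lam * μ ^ q = 1) (hν : ν ^ (q + 1) = 1) :
    IsUnitary q (wMat l lam μ ν) := by
  intro u v
  have h1' : μ * lam ^ q = 1 := by
    have := congrArg (fun a => a ^ q) h1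
    simpa [mul_pow, pow_q_pow_q hF, mul_comm] using this
  obtain ⟨x, y, z, rfl⟩ := exists_vec3 hF h2 hl u
  obtain ⟨x', y', z', rfl⟩ := exists_vec3 hF h2 hl v
  rw [wMat_vec3 h2, wMat_vec3 h2, herm_vec3 hF h2 hl, herm_vec3 hF h2 hl, mul_pow, mul_pow, mul_pow]
  rw [pow_succ'] at hν
  linear_combination x * z' ^ q * h1 + z * x' ^ q * h1' + y * y' ^ q * hν

theorem wMat_det (h2 : (2 : F) = 0) (l lam μ ν : F) :
    (wMat l lam μ ν).det = ν * lam * μ := by
  simp [wMat, Matrix.det_fin_three]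
  linear_combination -(ν * lam * μ) * h2

include q in
/-- A trace zero companion. -/
theorem exists_cube (M : Model F q) {l : F} (hl : l + l ^ q = 1) (u : sylThree M.card M.two)
    (hu : coordA u ≠ 0) :
    ∃ g : Cfsg.PSU 3 F q, act M.card g (aPt M.card M.two) ≠ aPt M.card M.two ∧ g ^ 3 = 1 ∧
      (unip M.card M.two u * g) ^ 3 = 1 := by
  have hF := M.card
  obtain ⟨ζ, hζ, hord⟩ := exists_norm_one_gen hF
  have hq := M.four_le
  have hζ0 : ζ ≠ 0 := fun h => by simp [h] at hζ
  set x := coordA u with hx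
  set y := coordB u with hy
  have hy0 : y ≠ 0 := fun h => hu (by
    have := (coe_eq u).2
    rw [← hy, h, zero_pow_q hF, add_zero, ← hx] at this
    exact pow_eq_zero_iff (Nat.succ_ne_zero q) |>.1 this.symm)
  -- `b₀ + b₀ ^ q ≠ 0`
  set b₀ := ζ ^ (q - 2) with hb₀
  set k₀ := b₀ + b₀ ^ q with hk₀
  have hk₀0 : k₀ ≠ 0 := by
    intro h
    have h1 : b₀ ^ q = b₀ := (fixed_iff_trace_zero (h2 := M.two) b₀).1 h
    have h3 : b₀ ^ q * b₀ = 1 := by
      rw [← pow_succ, hb₀, ← pow_mul, mul_comm, pow_mul, hζ, one_pow]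
    rw [h1, hb₀, ← pow_add] at h3
    have hdvd := orderOf_dvd_of_pow_eq_one h3
    rw [hord] at hdvd
    have h5 : q + 1 ∣ 6 := by
      have h4 : q - 2 + (q - 2) + 6 = 2 * (q + 1) := by omega
      exact (Nat.dvd_add_right hdvd).1 (h4 ▸ dvd_mul_left _ _)
    have h6 := Nat.le_of_dvd (by norm_num) h5
    obtain ⟨n, hn, hq'⟩ := M.big
    have : q = 4 ∨ q = 5 := by omega
    rcases this with h7 | h7
    · rw [h7] at h5; norm_num at h5
    · rw [h7] at h5 hq'
      have hev : Even (2 ^ n) := Nat.even_pow.2 ⟨even_two, by omega⟩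
      rw [← hq'] at hev
      exact absurd hev (by decide)
  set k := y ^ (q + 1) / x ^ (q + 1) with hk
  have hk0 : k ≠ 0 := div_ne_zero (pow_ne_zero _ hy0) (pow_ne_zero _ hu)
  have hkq : k ^ q = k := by rw [hk, div_pow, pow_q_succ_fixed hF, pow_q_succ_fixed hF]
  set s := k₀ / k with hs
  have hs0 : s ≠ 0 := div_ne_zero hk₀0 hk0
  have hsq : s ^ q = s := by
    rw [hs, div_pow, hkq, hk₀, add_pow_q hF, pow_q_pow_q hF, add_comm]
  set lam := s * ζ with hlam
  have hlam0 : lam ≠ 0 := mul_ne_zero hs0 hζ0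
  set μ := (lam ^ q)⁻¹ with hμ
  set ν := lam ^ q / lam with hν'
  have h1 : lam * μ ^ q = 1 := by
    rw [hμ, inv_pow, pow_q_pow_q hF, mul_inv_cancel₀ hlam0]
  have hν : ν ^ (q + 1) = 1 := by
    rw [hν', div_pow, ← pow_mul, mul_comm, pow_mul, pow_q_succ_fixed hF, div_self (pow_ne_zero _ hlam0)]
  have hdet : ν * lam * μ = 1 := by
    rw [hν', hμ, div_mul_cancel₀ _ hlam0, mul_inv_cancel₀ (pow_ne_zero _ hlam0)]
  let W : Cfsg.SU 3 F q := suOfUnitary (wMat l lam μ ν) (wMat_mem hF M.two hl h1 hν)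
    ((wMat_det M.two l lam μ ν).trans hdet)
  set b := ν / lam with hb
  have hbs : b = b₀ / s := by
    have hζq : ζ ^ q = ζ ^ (q - 2) * (ζ * ζ) := by
      rw [← sq, ← pow_add, Nat.sub_add_cancel (by omega)]
    rw [hb, hν', hlam, mul_pow, hsq, hb₀, hζq]
    field_simp
  set a := (y / x ^ q) with ha'
  have hab : b + b ^ q = a ^ (q + 1) := by
    rw [hbs, div_pow, hsq, ← add_div, ← hk₀, hs, div_div_eq_mul_div, mul_div_cancel_left₀ _ hk₀0, hk,
      ha', div_pow, ← pow_mul x, mul_comm q, pow_mul x, pow_q_succ_fixed hF]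
  obtain ⟨v, hvA, hvB⟩ := exists_mk (hF := M.card) (h2 := M.two) hab
  let g : Cfsg.SU 3 F q := v.1 * W
  have htrace : ∀ w : sylThree M.card M.two,
      (((w.1 * W : Cfsg.SU 3 F q) : Matrix.SpecialLinearGroup (Fin 3) F) :
        Matrix (Fin 3) (Fin 3) F).trace = coordB w * lam + ν := by
    intro w
    rw [Subgroup.coe_mul, Matrix.SpecialLinearGroup.coe_mul, (coe_eq w).1]
    show (mat3 q (coordA w) (coordB w) * wMat l lam μ ν).trace = _
    simp [Matrix.trace_fin_three, mat3, wMat, Matrix.mul_apply, Fin.sum_univ_three]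
    linear_combination ((1 + l) * l * lam + μ + coordB w * (2 * μ + (2 * l + 2 * l * l) * lam)) * M.two
  refine ⟨(g : Cfsg.PSU 3 F q), ?_, cube_of_trace M g ?_, ?_⟩
  · rw [act_coe, mul_smul, aPt, IsoLine.smul_mk]
    intro h
    have hW : suAct W (rVec F) = lam • sVec l := by
      show wMat l lam μ ν *ᵥ rVec F = _
      rw [← vec3_r (l := l), wMat_vec3 M.two, vec3]
      simp
    rw [IsoLine.smul_mk, IsoLine.mk_eq_iff] at h
    obtain ⟨c, hc⟩ := h
    rw [hW, suAct_smul, ← vec3_s (l := l), syl_vec3 M.card M.two hl v, smul_vec3,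
      ← vec3_r (l := l), smul_vec3] at hc
    have := (vec3_inj M.two hc).2.2
    simp at this
    exact hlam0 this.symm
  · rw [htrace v, hvB, hb, div_mul_cancel₀ _ hlam0]
    linear_combination ν * M.two
  · have hmul : unip M.card M.two u * (g : Cfsg.PSU 3 F q) =
        (((u * v).1 * W : Cfsg.SU 3 F q) : Cfsg.PSU 3 F q) := by
      show ((u.1 : Cfsg.SU 3 F q) : Cfsg.PSU 3 F q) * _ = _
      rw [← QuotientGroup.mk_mul, Subgroup.coe_mul, mul_assoc]
    rw [hmul]
    refine cube_of_trace M _ ?_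
    rw [htrace, (coord_mul u v).2, hvA, hvB, ← hx, ← hy, ha',
      mul_div_cancel₀ _ (pow_ne_zero _ hu), hb]
    field_simp
    linear_combination (ν + y * lam) * M.two

end Cfsg.Agent.BinaryOneClass
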