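import Cfsg.Agent.Lib.SuzukiRankOne.UnitaryModel
import Cfsg.Agent.Lib.Bender.Consumers
/-!
# `PSU₃(q)`, `q` even: 2-elements and isotropic points (owner: helper88, for S5735)

* `eigen` : an element fixing the two base points is diagonal in the basis `r, e, s`;
* `pow_fix_two` : a 2-element fixing two points is trivial;
* `sylow_range` : the image of `sylThree` is a Sylow 2-subgroup;
* `exists_fix`, `fix_unique`, `commute_point`, `point_commute` : involutions and points;
* `center_sylow` : the centre of a Sylow 2-subgroup.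
-/

set_option autoImplicit false
set_option linter.unusedSectionVars false

namespace Cfsg.Agent.BinaryOneClass

open Cfsg.Agent.Unitary Cfsg.Agent.SuzukiRankOne
open scoped Matrix

variable {F : Type} [Field F] [Fintype F] {q : ℕ}

theorem pow_two_pow_inj (h2 : (2 : F) = 0) : ∀ {k : ℕ} {x y : F}, x ^ 2 ^ k = y ^ 2 ^ k → x = y
  | 0, x, y, h => by simpa using h
  | k + 1, x, y, h => by
    rw [pow_succ, pow_mul, pow_mul] at h
    refine pow_two_pow_inj h2 (k := k) ?_
    have : (x ^ 2 ^ k + y ^ 2 ^ k) ^ 2 = 0 := by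
      linear_combination h + (x ^ 2 ^ k * y ^ 2 ^ k + (y ^ 2 ^ k) ^ 2) * h2
    linear_combination (eq_zero_of_pow_eq_zero this) - y ^ 2 ^ k * h2

variable (hF : Fintype.card F = q ^ 2)

/-- Two elements of `SU₃` with the same image differ by a scalar. -/
theorem coe_eq_iff {g g' : Cfsg.SU 3 F q} :
    (g : Cfsg.PSU 3 F q) = g' ↔ g⁻¹ * g' ∈ Subgroup.center (Cfsg.SU 3 F q) :=
  QuotientGroup.eq

include hF in
theorem coe_eq_one {g : Cfsg.SU 3 F q} {c : F} (h : ∀ x, suAct g x = c • x) :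
    (g : Cfsg.PSU 3 F q) = 1 := by
  rw [QuotientGroup.eq_one_iff, mem_center_SU_iff hF (by norm_num)]
  refine ⟨c, Matrix.ext_iff_mulVec.2 fun x => ?_⟩
  have := h x
  rw [suAct] at this
  rw [this]
  ext i
  simp [Matrix.scalar_apply, Matrix.mulVec_diagonal]

include hF in
theorem scalar_of_coe_eq_one {g : Cfsg.SU 3 F q} (h : (g : Cfsg.PSU 3 F q) = 1) :
    ∃ c : F, ∀ x, suAct g x = c • x := by
  rw [QuotientGroup.eq_one_iff, mem_center_SU_iff hF (by norm_num)] at h
  obtain ⟨c, hc⟩ := h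
  refine ⟨c, fun x => ?_⟩
  rw [suAct, hc]
  ext i
  simp [Matrix.scalar_apply, Matrix.mulVec_diagonal]

/-- The action on isotropic points. -/
noncomputable abbrev act (g : Cfsg.PSU 3 F q) (p : IsoLine 3 F q) : IsoLine 3 F q :=
  psuHom hF g p

theorem act_one (p : IsoLine 3 F q) : act hF 1 p = p := by
  rw [act, map_one]; rfl

theorem act_mul (g g' : Cfsg.PSU 3 F q) (p : IsoLine 3 F q) :
    act hF (g * g') p = act hF g (act hF g' p) := by
  rw [act, map_mul]; rfl

theorem act_coe (g : Cfsg.SU 3 F q) (p : IsoLine 3 F q) : act hF (g : Cfsg.PSU 3 F q) p = g • p :=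
  rfl

theorem act_inv_act (g : Cfsg.PSU 3 F q) (p : IsoLine 3 F q) : act hF g⁻¹ (act hF g p) = p := by
  rw [← act_mul, inv_mul_cancel, act_one]

theorem act_act_inv (g : Cfsg.PSU 3 F q) (p : IsoLine 3 F q) : act hF g (act hF g⁻¹ p) = p := by
  rw [← act_mul, mul_inv_cancel, act_one]

theorem act_inj (g : Cfsg.PSU 3 F q) : Function.Injective (act hF g) :=
  fun _ _ h => (psuHom hF g).injective h

theorem act_conj_iff (g x : Cfsg.PSU 3 F q) (p : IsoLine 3 F q) :
    act hF (g * x * g⁻¹) (act hF g p) = act hF g p ↔ act hF x p = p := by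
  rw [act_mul, act_inv_act, act_mul, (act_inj hF g).eq_iff]

theorem act_pow {g : Cfsg.PSU 3 F q} {p : IsoLine 3 F q} (h : act hF g p = p) :
    ∀ k : ℕ, act hF (g ^ k) p = p
  | 0 => by rw [pow_zero, act_one]
  | k + 1 => by rw [pow_succ, act_mul, h, act_pow h k]

theorem act_inv {g : Cfsg.PSU 3 F q} {p : IsoLine 3 F q} (h : act hF g p = p) :
    act hF g⁻¹ p = p := by
  conv_lhs => rw [← h, act_inv_act]

variable (h2 : (2 : F) = 0) {l : F} (hl : l + l ^ q = 1)

include hl in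
theorem bPt_ne_aPt : bPt hF h2 hl ≠ aPt hF h2 := by
  intro h
  rw [bPt, aPt, IsoLine.mk_eq_iff] at h
  obtain ⟨c, hc⟩ := h
  have h0 := congrFun hc 0
  have h1 := congrFun hc 1
  simp [rVec, sVec] at h0 h1
  exact one_ne_zero (show (1 : F) = 0 by linear_combination h0 - h1)

/-- The image of `sylThree`. -/
def unip : sylThree hF h2 →* Cfsg.PSU 3 F q :=
  (QuotientGroup.mk' (Subgroup.center (Cfsg.SU 3 F q))).comp (sylThree hF h2).subtype

theorem act_unip (u : sylThree hF h2) (p : IsoLine 3 F q) :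
    act hF (unip hF h2 u) p = u.1 • p := rfl

theorem unip_fix (u : sylThree hF h2) : act hF (unip hF h2 u) (aPt hF h2) = aPt hF h2 := by
  rw [act_unip, aPt, IsoLine.smul_mk]
  exact IsoLine.mk_eq_iff.2 ⟨1, by rw [one_smul, syl_r]⟩

include hl in
theorem unip_eq_one (u : sylThree hF h2) (h : act hF (unip hF h2 u) (bPt hF h2 hl) = bPt hF h2 hl) :
    u = 1 :=
  syl_fix hF h2 hl u h

include hl in
theorem unip_injective : Function.Injective (unip hF h2) := by
  rw [injective_iff_map_eq_one]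
  intro u hu
  refine unip_eq_one hF h2 hl u ?_
  rw [hu, act_one]

include hl in
theorem exists_unip_move {p : IsoLine 3 F q} (hp : p ≠ aPt hF h2) :
    ∃ u, act hF (unip hF h2 u) (bPt hF h2 hl) = p :=
  exists_syl_move hF h2 hl p hp

/-- Double transitivity. -/
theorem exists_map_pair {p p' : IsoLine 3 F q} (hne : p ≠ p') :
    ∃ g : Cfsg.PSU 3 F q, act hF g (aPt hF h2) = p ∧ act hF g (bPt hF h2 hl) = p' := by
  obtain ⟨g, hg⟩ := (isoLine_pretransitive (n := 3) hF le_rfl).exists_smul_eq (aPt hF h2) p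
  have hg' : act hF (g : Cfsg.PSU 3 F q) (aPt hF h2) = p := hg
  obtain ⟨u, hu⟩ := exists_unip_move hF h2 hl
    (p := act hF (g : Cfsg.PSU 3 F q)⁻¹ p') fun h => hne (by
      rw [← hg', ← h, act_act_inv])
  exact ⟨g * unip hF h2 u, by rw [act_mul, unip_fix, hg'], by rw [act_mul, hu, act_act_inv]⟩

theorem exists_map_point (p : IsoLine 3 F q) :
    ∃ g : Cfsg.PSU 3 F q, act hF g (aPt hF h2) = p := by
  obtain ⟨g, hg⟩ := (isoLine_pretransitive (n := 3) hF le_rfl).exists_smul_eq (aPt hF h2) p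
  exact ⟨g, hg⟩

include hF h2 hl in
theorem exists_ne_point (p : IsoLine 3 F q) : ∃ p' : IsoLine 3 F q, p' ≠ p := by
  by_cases h : p = aPt hF h2
  · exact ⟨bPt hF h2 hl, h ▸ bPt_ne_aPt hF h2 hl⟩
  · exact ⟨aPt hF h2, Ne.symm h⟩

include hl in
/-- An element fixing the two base points is diagonal in the basis `r, e, s`. -/
theorem eigen {g : Cfsg.SU 3 F q} (ha : g • aPt hF h2 = aPt hF h2)
    (hb : g • bPt hF h2 hl = bPt hF h2 hl) :
    ∃ lam μ ν : F, suAct g (rVec F) = lam • rVec F ∧ suAct g (sVec l) = μ • sVec l ∧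
      suAct g (eVec F) = ν • eVec F ∧ lam * μ ^ q = 1 ∧ ν ^ (q + 1) = 1 ∧ ν * lam * μ = 1 := by
  have H := hermForm_isHerm hF 3
  rw [aPt, IsoLine.smul_mk, IsoLine.mk_eq_iff] at ha
  rw [bPt, IsoLine.smul_mk, IsoLine.mk_eq_iff] at hb
  obtain ⟨lam, hlam⟩ := ha
  obtain ⟨μ, hμ⟩ := hb
  have hsr : Cfsg.hermForm 3 F q (sVec l) (rVec F) = 1 := herm_sr hF h2 hl
  have hrs : Cfsg.hermForm 3 F q (rVec F) (sVec l) = 1 := by
    rw [H.conj_symm (sVec l) (rVec F), hsr, one_pow]
  have h1 : lam * μ ^ q = 1 := by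
    have h := suAct_herm g (rVec F) (sVec l)
    rwa [← hlam, ← hμ, H.smul_left, H.smul_right, hrs, mul_one] at h
  have hlam0 : lam ≠ 0 := left_ne_zero_of_mul_eq_one h1
  have hμ0 : μ ≠ 0 := fun h => by simp [h, zero_pow_q hF] at h1
  obtain ⟨y, hy⟩ : ∃ y, y = suAct g (eVec F) := ⟨_, rfl⟩
  have her : Cfsg.hermForm 3 F q y (rVec F) = 0 := by
    have h := suAct_herm g (eVec F) (rVec F)
    rw [← hy, ← hlam, H.smul_right, herm_rVec hF (eVec F)] at h
    have h0 : eVec F 0 + eVec F 1 = 0 := by simp [eVec]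
    rw [h0, mul_eq_zero] at h
    exact h.resolve_left fun h => hlam0 ((pow_q_eq_zero hF).1 h)
  rw [herm_rVec hF] at her
  have hes : Cfsg.hermForm 3 F q y (sVec l) = 0 := by
    have h := suAct_herm g (eVec F) (sVec l)
    rw [← hy, ← hμ, H.smul_right] at h
    have h0 : Cfsg.hermForm 3 F q (eVec F) (sVec l) = 0 := by
      simp [herm_three hF, eVec, sVec, zero_pow_q hF]
    rw [h0, mul_eq_zero] at h
    exact h.resolve_left fun h => hμ0 ((pow_q_eq_zero hF).1 h)
  have hy1 : y 1 = y 0 := by linear_combination her - y 0 * h2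
  have hy0 : y 0 = 0 := by
    rw [herm_three hF] at hes
    simp [sVec, add_pow_q hF, zero_pow_q hF, hy1] at hes
    linear_combination hes - y 0 * l ^ q * h2
  have hye : y = y 2 • eVec F := by
    ext i
    fin_cases i <;> simp [eVec, hy0, hy1]
  have hν : y 2 ^ (q + 1) = 1 := by
    have h := suAct_herm g (eVec F) (eVec F)
    rw [← hy, hye, H.smul_left, H.smul_right] at h
    have h0 : Cfsg.hermForm 3 F q (eVec F) (eVec F) = 1 := by
      simp [herm_three hF, eVec, zero_pow_q hF]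
    rw [h0, mul_one] at h
    rw [pow_succ']
    exact h
  refine ⟨lam, μ, y 2, hlam.symm, hμ.symm, hy ▸ hye, h1, hν, ?_⟩
  have hcol0 : suAct g (![1, 0, 0]) = ((1 + l) * lam) • rVec F + μ • sVec l := by
    rw [decompose hF h2 hl ![1, 0, 0], suAct_add, suAct_add, suAct_smul, suAct_smul, suAct_smul,
      ← hlam, ← hμ]
    simp [smul_smul]
  have hcol1 : suAct g (![0, 1, 0]) = (l * lam) • rVec F + μ • sVec l := by
    rw [decompose hF h2 hl ![0, 1, 0], suAct_add, suAct_add, suAct_smul, suAct_smul, suAct_smul,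
      ← hlam, ← hμ]
    simp [smul_smul]
  have hcol2 : suAct g (![0, 0, 1]) = y 2 • eVec F := hy ▸ hye
  have hdet := (g : Matrix.SpecialLinearGroup (Fin 3) F).2
  have hent : ∀ i j, ((g : Matrix.SpecialLinearGroup (Fin 3) F) : Matrix (Fin 3) (Fin 3) F) i j =
      suAct g (Pi.single j 1) i := fun i j => by simp [suAct]
  have e0 : (Pi.single (0 : Fin 3) (1 : F)) = ![1, 0, 0] := by ext i; fin_cases i <;> simp
  have e1 : (Pi.single (1 : Fin 3) (1 : F)) = ![0, 1, 0] := by ext i; fin_cases i <;> simp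
  have e2 : (Pi.single (2 : Fin 3) (1 : F)) = ![0, 0, 1] := by ext i; fin_cases i <;> simp
  rw [Matrix.det_fin_three] at hdet
  simp only [hent, e0, e1, e2, hcol0, hcol1, hcol2] at hdet
  simp [rVec, sVec, eVec] at hdet
  linear_combination hdet - ((1 + l) * 0) * h2

include hl in
/-- A 2-element fixing the two base points is trivial. -/
theorem pow_fix_base {x : Cfsg.PSU 3 F q} {k : ℕ} (hk : x ^ 2 ^ k = 1)
    (ha : act hF x (aPt hF h2) = aPt hF h2) (hb : act hF x (bPt hF h2 hl) = bPt hF h2 hl) :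
    x = 1 := by
  induction x using QuotientGroup.induction_on with | _ g => ?_
  obtain ⟨lam, μ, ν, hr, hs, he, -⟩ := eigen hF h2 hl ha hb
  rw [← QuotientGroup.mk_pow] at hk
  obtain ⟨c, hc⟩ := scalar_of_coe_eq_one hF hk
  have hpow : ∀ (v : Fin 3 → F) (ξ : F), suAct g v = ξ • v → ∀ n : ℕ, suAct (g ^ n) v = ξ ^ n • v := by
    intro v ξ hv n
    induction n with
    | zero => simp
    | succ n ih => rw [pow_succ, suAct_mul, hv, suAct_smul, ih, smul_smul, mul_comm, ← pow_succ]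
  have key : ∀ (v : Fin 3 → F) (ξ : F), v ≠ 0 → suAct g v = ξ • v → ξ ^ 2 ^ k = c := by
    intro v ξ hv0 hv
    have h := (hc v).symm.trans (hpow v ξ hv (2 ^ k))
    exact (smul_left_injective F hv0 h).symm
  have h1 := key _ _ (rVec_ne hF) hr
  have hlm : μ = lam := pow_two_pow_inj h2 ((key _ _ (sVec_ne hF h2 hl) hs).trans h1.symm)
  have hln : ν = lam := pow_two_pow_inj h2 ((key (eVec F) _ (fun h => by
    simpa [eVec] using congrFun h 2) he).trans h1.symm)
  refine coe_eq_one hF (c := lam) fun x => ?_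
  rw [decompose hF h2 hl x]
  simp only [suAct_add, suAct_smul, hr, hs, he, hlm, hln, smul_add, smul_smul]
  simp [mul_comm]

include h2 hl in
/-- A 2-element fixing two points is trivial. -/
theorem pow_fix_two {x : Cfsg.PSU 3 F q} {k : ℕ} (hk : x ^ 2 ^ k = 1) {p p' : IsoLine 3 F q}
    (hne : p ≠ p') (hp : act hF x p = p) (hp' : act hF x p' = p') : x = 1 := by
  obtain ⟨g, rfl, rfl⟩ := exists_map_pair hF h2 hl hne
  have h := pow_fix_base hF h2 hl (x := g⁻¹ * x * g⁻¹⁻¹) (k := k) (by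
      rw [conj_pow, hk, mul_one, mul_inv_cancel])
    (by rw [inv_inv, act_mul, act_mul, hp, act_inv_act])
    (by rw [inv_inv, act_mul, act_mul, hp', act_inv_act])
  rwa [inv_inv, mul_assoc, inv_mul_eq_one, eq_comm, mul_eq_right] at h

include hl in
/-- The point stabiliser normalises the image of `sylThree`. -/
theorem unip_conj {x : Cfsg.PSU 3 F q} (hx : act hF x (aPt hF h2) = aPt hF h2)
    (u : sylThree hF h2) : ∃ v, unip hF h2 v = x * unip hF h2 u * x⁻¹ := by
  induction x using QuotientGroup.induction_on with | _ g => ?_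
  exact ⟨⟨_, syl_conj hF h2 hl hx u.2⟩, rfl⟩

include hl in
/-- A 2-element fixing the base point lies in the image of `sylThree`. -/
theorem mem_unip {x : Cfsg.PSU 3 F q} {k : ℕ} (hk : x ^ 2 ^ k = 1)
    (ha : act hF x (aPt hF h2) = aPt hF h2) : ∃ u, unip hF h2 u = x := by
  obtain ⟨u, hu⟩ := exists_unip_move hF h2 hl (p := act hF x (bPt hF h2 hl)) (fun h =>
    bPt_ne_aPt hF h2 hl (act_inj hF x (h.trans ha.symm)))
  obtain ⟨y, hy⟩ : ∃ y, y = (unip hF h2 u)⁻¹ * x := ⟨_, rfl⟩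
  have hya : act hF y (aPt hF h2) = aPt hF h2 := by
    rw [hy, act_mul, ha, act_inv hF (unip_fix hF h2 u)]
  have hyb : act hF y (bPt hF h2 hl) = bPt hF h2 hl := by
    rw [hy, act_mul, ← hu, act_inv_act]
  have hpow : ∀ n : ℕ, ∃ v, y ^ n = unip hF h2 v * x ^ n := by
    intro n
    induction n with
    | zero => exact ⟨1, by simp⟩
    | succ n ih =>
      obtain ⟨v, hv⟩ := ih
      obtain ⟨v', hv'⟩ := unip_conj hF h2 hl ha v
      refine ⟨u⁻¹ * v', ?_⟩
      rw [pow_succ', hv, map_mul, map_inv, hv', hy, pow_succ']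
      group
  obtain ⟨v, hv⟩ := hpow (2 ^ k)
  rw [hk, mul_one] at hv
  have hv1 : v = 1 := unip_eq_one hF h2 hl v (by rw [← hv]; exact act_pow hF hyb _)
  rw [hv1, map_one] at hv
  have hy1 := pow_fix_base hF h2 hl hv hya hyb
  exact ⟨u, inv_mul_eq_one.1 (hy.symm.trans hy1)⟩

theorem unip_pow_two (u : sylThree hF h2) : unip hF h2 u ^ 2 ^ 2 = 1 := by
  rw [← map_pow, show (2 : ℕ) ^ 2 = 2 * 2 by norm_num, pow_mul, sq, sq,
    (Unitary.sq_eq_one_iff (u * u)).2 (coord_sq u).1, map_one]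

include hl in
/-- The image of `sylThree` is a Sylow 2-subgroup. -/
theorem sylow_range {n : ℕ} (hn : 2 ≤ n) (hq : q = 2 ^ n) :
    ∃ P : Sylow 2 (Cfsg.PSU 3 F q), (P : Subgroup (Cfsg.PSU 3 F q)) = (unip hF h2).range := by
  classical
  haveI : Fact (Nat.Prime 2) := ⟨Nat.prime_two⟩
  subst hq
  obtain ⟨Ω, iA, iF, a, t, Q, hset, htwo, -, -, -, hcard⟩ :=
    SuzukiRankOne.unitaryModel F n hn hF
  obtain ⟨-, ⟨S, hS⟩, -⟩ := Bender.sylow_normal hset htwo
  have h2Q : IsPGroup 2 (unip hF h2).range := by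
    rintro ⟨_, u, rfl⟩
    exact ⟨2, Subtype.ext (by simpa using unip_pow_two hF h2 u)⟩
  obtain ⟨P, hP⟩ := h2Q.exists_le_sylow
  refine ⟨P, (Subgroup.eq_of_le_of_card_ge hP ?_).symm⟩
  rw [← Nat.card_congr (MonoidHom.ofInjective (unip_injective hF h2 hl)).toEquiv, card_sylThree,
    ← hcard, ← hS, S.card_eq_multiplicity, P.card_eq_multiplicity]

/-- The data of the model: the field, `q` and the parameter `l`. -/
structure Model (F : Type) [Field F] [Fintype F] (q : ℕ) : Prop where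
  card : Fintype.card F = q ^ 2
  two : (2 : F) = 0
  big : ∃ n, 2 ≤ n ∧ q = 2 ^ n

theorem Model.mk' {a : ℕ} (ha : 2 ≤ a) (hF : Fintype.card F = (2 ^ a) ^ 2) : Model F (2 ^ a) := by
  refine ⟨hF, ?_, a, ha, rfl⟩
  have h0 : ((2 : ℕ) : F) ^ (a * 2) = 0 := by
    rw [← Nat.cast_pow, pow_mul, ← hF]; exact FiniteField.cast_card_eq_zero F
  exact_mod_cast eq_zero_of_pow_eq_zero h0

variable (M : Model F q)

theorem Model.exists_l (M : Model F q) : ∃ l : F, l + l ^ q = 1 := exists_trace_eq M.card (one_pow q)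

theorem Model.four_le (M : Model F q) : 4 ≤ q := by
  obtain ⟨n, hn, rfl⟩ := M.big
  calc 4 = 2 ^ 2 := rfl
    _ ≤ 2 ^ n := Nat.pow_le_pow_right (by norm_num) hn

include M in
/-- A 2-element fixes a point. -/
theorem exists_fix {x : Cfsg.PSU 3 F q} {k : ℕ} (hk : x ^ 2 ^ k = 1) :
    ∃ p, act M.card x p = p := by
  classical
  haveI : Fact (Nat.Prime 2) := ⟨Nat.prime_two⟩
  obtain ⟨l, hl⟩ := M.exists_l
  obtain ⟨n, hn, hq⟩ := M.big
  obtain ⟨P, hP⟩ := sylow_range M.card M.two hl hn hq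
  have hx : IsPGroup 2 (Subgroup.zpowers x) :=
    by
    obtain ⟨j, -, hj⟩ := (Nat.dvd_prime_pow Nat.prime_two).1 (orderOf_dvd_of_pow_eq_one hk)
    exact IsPGroup.of_card (n := j) (by rw [Nat.card_zpowers, hj])
  obtain ⟨S, hS⟩ := hx.exists_le_sylow
  obtain ⟨g, rfl⟩ := MulAction.exists_smul_eq (Cfsg.PSU 3 F q) P S
  have hxS := hS (Subgroup.mem_zpowers x)
  rw [Sylow.coe_subgroup_smul, hP, Subgroup.mem_pointwise_smul_iff_inv_smul_mem] at hxS
  obtain ⟨u, hu⟩ := hxS
  refine ⟨act M.card g (aPt M.card M.two), ?_⟩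
  have hx' : x = g * unip M.card M.two u * g⁻¹ := by
    rw [hu, ← map_inv, MulAut.smul_def, MulAut.conj_apply]
    group
  rw [hx', act_conj_iff]
  exact unip_fix M.card M.two u

include M in
theorem fix_unique {x : Cfsg.PSU 3 F q} {k : ℕ} (hk : x ^ 2 ^ k = 1) (hx : x ≠ 1)
    {p p' : IsoLine 3 F q} (hp : act M.card x p = p) (hp' : act M.card x p' = p') : p = p' := by
  obtain ⟨l, hl⟩ := M.exists_l
  by_contra hne
  exact hx (pow_fix_two M.card M.two hl hk hne hp hp')

include M in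
/-- Commuting involutions fix the same point. -/
theorem commute_point {x y : Cfsg.PSU 3 F q} (hx : x * x = 1) (hy : y * y = 1) (hx1 : x ≠ 1)
    (hxy : x * y = y * x) {p : IsoLine 3 F q} (hp : act M.card x p = p) : act M.card y p = p :=
  fix_unique M (k := 1) (by rwa [pow_one, sq]) hx1 (by rw [← act_mul, hxy, act_mul, hp]) hp

include M in
/-- Involutions fixing the same point commute. -/
theorem point_commute {x y : Cfsg.PSU 3 F q} (hx : x * x = 1) (hy : y * y = 1) {p : IsoLine 3 F q}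
    (hp : act M.card x p = p) (hp' : act M.card y p = p) : x * y = y * x := by
  obtain ⟨l, hl⟩ := M.exists_l
  obtain ⟨g, rfl⟩ := exists_map_point M.card M.two p
  have key : ∀ z : Cfsg.PSU 3 F q, z * z = 1 → act M.card z (act M.card g (aPt M.card M.two)) =
      act M.card g (aPt M.card M.two) → ∃ u, u ∈ Subgroup.center (sylThree M.card M.two) ∧
        z = g * unip M.card M.two u * g⁻¹ := by
    intro z hz hzp
    obtain ⟨u, hu⟩ := mem_unip M.card M.two hl (x := g⁻¹ * z * g⁻¹⁻¹) (k := 1)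
      (by rw [pow_one, conj_pow, sq, hz, mul_one, mul_inv_cancel])
      (by rw [inv_inv, act_mul, act_mul, hzp, act_inv_act])
    refine ⟨u, ?_, by rw [hu]; group⟩
    rw [mem_center_iff, ← Unitary.sq_eq_one_iff]
    apply unip_injective M.card M.two hl
    rw [map_mul, hu, map_one, conj_mul, hz, mul_one, mul_inv_cancel]
  obtain ⟨u, hu, rfl⟩ := key x hx hp
  obtain ⟨v, hv, rfl⟩ := key y hy hp'
  rw [conj_mul, conj_mul, ← map_mul, ← map_mul, Subgroup.mem_center_iff.1 hu v]

include M in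
/-- The centre of a Sylow 2-subgroup consists of the involutions at a point. -/
theorem center_sylow (P : Sylow 2 (Cfsg.PSU 3 F q)) : ∃ p : IsoLine 3 F q,
    ∀ x, x ∈ (Subgroup.center (P : Subgroup (Cfsg.PSU 3 F q))).map
      (P : Subgroup (Cfsg.PSU 3 F q)).subtype ↔ x * x = 1 ∧ act M.card x p = p := by
  classical
  haveI : Fact (Nat.Prime 2) := ⟨Nat.prime_two⟩
  obtain ⟨l, hl⟩ := M.exists_l
  obtain ⟨n, hn, hq⟩ := M.big
  obtain ⟨P₀, hP₀⟩ := sylow_range M.card M.two hl hn hq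
  obtain ⟨g, rfl⟩ := MulAction.exists_smul_eq (Cfsg.PSU 3 F q) P₀ P
  set S := ((g • P₀ : Sylow 2 (Cfsg.PSU 3 F q)) : Subgroup (Cfsg.PSU 3 F q)) with hS
  have hmem : ∀ x, x ∈ S ↔ ∃ u, x = g * unip M.card M.two u * g⁻¹ := by
    intro x
    rw [hS, Sylow.coe_subgroup_smul, hP₀, Subgroup.mem_pointwise_smul_iff_inv_smul_mem,
      MonoidHom.mem_range, ← map_inv, MulAut.smul_def, MulAut.conj_apply, inv_inv]
    constructor
    · rintro ⟨u, hu⟩
      exact ⟨u, by rw [hu]; group⟩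
    · rintro ⟨u, rfl⟩
      exact ⟨u, by group⟩
  refine ⟨act M.card g (aPt M.card M.two), fun x => ?_⟩
  constructor
  · rintro ⟨⟨y, hy⟩, hc, rfl⟩
    obtain ⟨u, rfl⟩ := (hmem y).1 hy
    refine ⟨?_, (act_conj_iff M.card g _ _).2 (unip_fix M.card M.two u)⟩
    have hu : u ∈ Subgroup.center (sylThree M.card M.two) := by
      refine Subgroup.mem_center_iff.2 fun v => unip_injective M.card M.two hl ?_
      have h := congrArg Subtype.val
        (Subgroup.mem_center_iff.1 hc ⟨g * unip M.card M.two v * g⁻¹, (hmem _).2 ⟨v, rfl⟩⟩)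
      simp only [Subgroup.coe_mul, conj_mul, mul_left_cancel_iff, mul_right_cancel_iff] at h
      rw [map_mul, map_mul]
      exact h
    rw [mem_center_iff, ← Unitary.sq_eq_one_iff] at hu
    show g * unip M.card M.two u * g⁻¹ * (g * unip M.card M.two u * g⁻¹) = 1
    rw [conj_mul, ← map_mul, hu, map_one, mul_one, mul_inv_cancel]
  · rintro ⟨hx, hxp⟩
    obtain ⟨u, hu⟩ := mem_unip M.card M.two hl (x := g⁻¹ * x * g⁻¹⁻¹) (k := 1)
      (by rw [pow_one, conj_pow, sq, hx, mul_one, mul_inv_cancel])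
      (by rw [inv_inv, act_mul, act_mul, hxp, act_inv_act])
    have hxS : x ∈ S := (hmem x).2 ⟨u, by rw [hu]; group⟩
    refine ⟨⟨x, hxS⟩, Subgroup.mem_center_iff.2 fun z => Subtype.ext ?_, rfl⟩
    obtain ⟨v, hv⟩ := (hmem _).1 z.2
    have hu' : u ∈ Subgroup.center (sylThree M.card M.two) := by
      rw [mem_center_iff, ← Unitary.sq_eq_one_iff]
      apply unip_injective M.card M.two hl
      rw [map_mul, hu, map_one, conj_mul, hx, mul_one, mul_inv_cancel]
    show (z : Cfsg.PSU 3 F q) * x = x * z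
    rw [hv, show x = g * unip M.card M.two u * g⁻¹ by rw [hu]; group, conj_mul, conj_mul,
      ← map_mul, ← map_mul, Subgroup.mem_center_iff.1 hu' v]

end Cfsg.Agent.BinaryOneClass
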