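import Cfsg.Agent.Lib.BinaryOneClass.Basic
import Cfsg.Agent.Lib.BinaryOneClass.Points
import Cfsg.Agent.Lib.BinaryPSL.Criteria
/-!
# Binary actions of `PSU₃(q)` with a stabiliser of even order: generalities (owner: helper88)

* `Ctx` : the hypotheses; `Ctx.conj` : passing to a conjugate stabiliser;
* `Full H p` : `H` contains every involution at the point `p`;
* `Ctx.comp_mem`, `Ctx.full_of_mem`, `Ctx.fix_sep`, `Ctx.inverted_mem`.
-/

set_option autoImplicit false
set_option linter.unusedSectionVars false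

open MulAction

namespace Cfsg.Agent.BinaryOneClass

open Cfsg.Agent.Unitary Cfsg.Agent.SuzukiRankOne

variable {F : Type} [Field F] [Fintype F] {q : ℕ}

/-- The hypotheses on a point stabiliser. -/
structure Ctx (M : Model F q) (H : Subgroup (Cfsg.PSU 3 F q)) : Prop where
  simple : IsSimpleGroup (Cfsg.PSU 3 F q)
  one : ∀ s t : Cfsg.PSU 3 F q, orderOf s = 2 → orderOf t = 2 → IsConj s t
  bin : BinaryPSL.Binary H
  ne_top : H ≠ ⊤
  even : Even (Nat.card H)

/-- `H` contains the involutions at the point `p`. -/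
def Full (M : Model F q) (H : Subgroup (Cfsg.PSU 3 F q)) (p : IsoLine 3 F q) : Prop :=
  ∀ x, x * x = 1 → act M.card x p = p → x ∈ H

/-- The conjugate `g H g⁻¹`. -/
abbrev cj (g : Cfsg.PSU 3 F q) (H : Subgroup (Cfsg.PSU 3 F q)) : Subgroup (Cfsg.PSU 3 F q) :=
  H.map (MulAut.conj g).toMonoidHom

theorem mem_cj {g x : Cfsg.PSU 3 F q} {H : Subgroup (Cfsg.PSU 3 F q)} :
    x ∈ cj g H ↔ g⁻¹ * x * g ∈ H :=
  BinaryPSL.mem_conj_iff

variable {M : Model F q} {H : Subgroup (Cfsg.PSU 3 F q)}

theorem Ctx.conj (C : Ctx M H) (g : Cfsg.PSU 3 F q) : Ctx M (cj g H) := by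
  refine ⟨C.simple, C.one, BinaryPSL.Binary.map C.bin (MulAut.conj g), fun h => C.ne_top ?_, ?_⟩
  · refine eq_top_iff.2 fun x _ => ?_
    have hx : g * x * g⁻¹ ∈ cj g H := by rw [h]; exact Subgroup.mem_top _
    rw [mem_cj] at hx
    simpa [mul_assoc] using hx
  · rw [← Nat.card_congr (H.equivMapOfInjective _ (MulAut.conj g).injective).toEquiv]
    exact C.even

theorem sq_conj {x : Cfsg.PSU 3 F q} (hx : x * x = 1) (g : Cfsg.PSU 3 F q) :
    g⁻¹ * x * g * (g⁻¹ * x * g) = 1 := by
  rw [← BinaryPSL.conj_mul_eq, hx, mul_one, inv_mul_cancel]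

theorem act_conj' (M : Model F q) (g x : Cfsg.PSU 3 F q) {p : IsoLine 3 F q}
    (h : act M.card x (act M.card g p) = act M.card g p) :
    act M.card (g⁻¹ * x * g) p = p := by
  rw [act_mul, act_mul, h, act_inv_act]

theorem act_conj'' (M : Model F q) (g x : Cfsg.PSU 3 F q) {p : IsoLine 3 F q}
    (h : act M.card (g⁻¹ * x * g) p = p) :
    act M.card x (act M.card g p) = act M.card g p := by
  rw [act_mul, act_mul] at h
  conv_rhs => rw [← h, act_act_inv]

theorem full_cj {g : Cfsg.PSU 3 F q} {p : IsoLine 3 F q} :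
    Full M (cj g H) (act M.card g p) ↔ Full M H p := by
  constructor
  · intro h x hx hp
    have := h (g * x * g⁻¹) (by rw [conj_mul, hx, mul_one, mul_inv_cancel])
      ((act_conj_iff M.card g x p).2 hp)
    rw [mem_cj] at this
    simpa [mul_assoc] using this
  · intro h x hx hp
    rw [mem_cj]
    exact h _ (sq_conj hx g) (act_conj' M g x hp)

theorem full_smul {h : Cfsg.PSU 3 F q} (hh : h ∈ H) {p : IsoLine 3 F q} (hp : Full M H p) :
    Full M H (act M.card h p) := fun x hx hxp => by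
  have := H.mul_mem (H.mul_mem hh (hp _ (sq_conj hx h) (act_conj' M h x hxp))) (H.inv_mem hh)
  rwa [show h * (h⁻¹ * x * h) * h⁻¹ = x by group] at this

theorem mem_iff_fix {g x : Cfsg.PSU 3 F q} :
    x • (QuotientGroup.mk g : Cfsg.PSU 3 F q ⧸ H) = QuotientGroup.mk g ↔ g⁻¹ * x * g ∈ H :=
  BinaryPSL.smul_mk_eq x g

theorem mem_iff_fix_one {x : Cfsg.PSU 3 F q} :
    x • ((1 : Cfsg.PSU 3 F q) : Cfsg.PSU 3 F q ⧸ H) = ((1 : Cfsg.PSU 3 F q) : Cfsg.PSU 3 F q ⧸ H) ↔
      x ∈ H := by
  rw [mem_iff_fix]; simp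

theorem not_all_involutions (C : Ctx M H) (h : ∀ x, x * x = 1 → x ∈ H) : False := by
  haveI := C.simple
  obtain ⟨s, -, hs⟩ := Involution.exists_involution_mem C.even
  let S : Set (Cfsg.PSU 3 F q) := {x | x * x = 1}
  have hle : Subgroup.normalClosure S ≤ H := by
    refine (Subgroup.closure_le H).2 fun x hx => ?_
    obtain ⟨a, ha, hax⟩ := Group.mem_conjugatesOfSet_iff.1 hx
    obtain ⟨c, rfl⟩ := isConj_iff.1 hax
    exact h _ (by rw [conj_mul, show a * a = 1 from ha, mul_one, mul_inv_cancel])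
  rcases (Subgroup.normalClosure_normal (s := S)).eq_bot_or_eq_top with e | e
  · exact Involution.ne_one hs (Subgroup.mem_bot.1 (e ▸
      Subgroup.subset_normalClosure (show s ∈ S from Involution.mul_self hs)))
  · exact C.ne_top (eq_top_iff.2 (e ▸ hle))

/-- With an involution, `H` contains all involutions at the same point. -/
theorem Ctx.full_of_mem (C : Ctx M H) {s : Cfsg.PSU 3 F q} (hsH : s ∈ H) (hs : s * s = 1)
    (hs1 : s ≠ 1) {p : IsoLine 3 F q} (hp : act M.card s p = p) : Full M H p := by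
  intro x hx hxp
  by_cases hx1 : x = 1
  · exact hx1 ▸ H.one_mem
  · exact mem_iff_fix_one.1 (commute_fix C.one C.bin (Involution.orderOf_of_sq hs hs1)
      (Involution.orderOf_of_sq hx hx1) (point_commute M hs hx hp hxp) (mem_iff_fix_one.2 hsH))

theorem Ctx.exists_full (C : Ctx M H) : ∃ p, Full M H p := by
  obtain ⟨s, hsH, hs⟩ := Involution.exists_involution_mem C.even
  obtain ⟨p, hp⟩ := exists_fix M (x := s) (k := 1)
    (by rw [pow_one, sq, Involution.mul_self hs])
  exact ⟨p, C.full_of_mem hsH (Involution.mul_self hs) (Involution.ne_one hs) hp⟩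

/-- Involutions at different points fix different cosets. -/
theorem Ctx.fix_sep (C : Ctx M H) {s t : Cfsg.PSU 3 F q} (hs : orderOf s = 2) (ht : orderOf t = 2)
    {p p' : IsoLine 3 F q} (hp : act M.card s p = p) (hp' : act M.card t p' = p') (hne : p ≠ p') :
    fixedBy (Cfsg.PSU 3 F q ⧸ H) s ≠ fixedBy (Cfsg.PSU 3 F q ⧸ H) t := by
  intro heq
  obtain ⟨l, hl⟩ := M.exists_l
  obtain ⟨g, rfl, rfl⟩ := exists_map_pair M.card M.two hl hne
  have hs2 := Involution.mul_self hs
  -- every involution fixes the same cosets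
  have key : ∀ x : Cfsg.PSU 3 F q, orderOf x = 2 →
      fixedBy (Cfsg.PSU 3 F q ⧸ H) x = fixedBy (Cfsg.PSU 3 F q ⧸ H) s := by
    intro x hx
    have hx2 := Involution.mul_self hx
    obtain ⟨r, hr⟩ := exists_fix M (x := x) (k := 1) (by rw [pow_one, sq, hx2])
    have same : ∀ y z : Cfsg.PSU 3 F q, orderOf y = 2 → orderOf z = 2 →
        y * z = z * y → fixedBy (Cfsg.PSU 3 F q ⧸ H) y = fixedBy (Cfsg.PSU 3 F q ⧸ H) z :=
      fun y z hy hz h => Set.ext fun w =>
        ⟨fun hw => commute_fix C.one C.bin hy hz h hw,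
          fun hw => commute_fix C.one C.bin hz hy h.symm hw⟩
    by_cases hra : r = act M.card g (aPt M.card M.two)
    · exact same x s hx hs (point_commute M hx2 hs2 hr (hra ▸ hp))
    obtain ⟨v, hv⟩ := exists_unip_move M.card M.two hl (p := act M.card g⁻¹ r) (fun h => hra (by
      rw [← h, act_act_inv]))
    obtain ⟨w, hw⟩ := mem_unip M.card M.two hl (x := g⁻¹ * s * g) (k := 1)
      (by rw [pow_one, sq, sq_conj hs2 g]) (act_conj' M g s hp)
    have hwc : w ∈ Subgroup.center (sylThree M.card M.two) := by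
      rw [mem_center_iff, ← Unitary.sq_eq_one_iff]
      apply unip_injective M.card M.two hl
      rw [map_mul, hw, map_one, sq_conj hs2 g]
    set u := g * unip M.card M.two v * g⁻¹ with hu
    have hus : u * s = s * u := by
      rw [hu, show s = g * unip M.card M.two w * g⁻¹ by rw [hw]; group, conj_mul, conj_mul,
        ← map_mul, ← map_mul, Subgroup.mem_center_iff.1 hwc v]
    set t' := u * t * u⁻¹ with ht'
    have ho : orderOf t' = 2 := (Involution.orderOf_conj u t).trans ht
    have hrt : act M.card t' r = r := by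
      have hur : act M.card u (act M.card g (bPt M.card M.two hl)) = r := by
        rw [hu, act_mul, act_mul, act_inv_act, hv, act_act_inv]
      rw [ht', ← hur, act_conj_iff]
      exact hp'
    rw [same x t' hx ho (point_commute M hx2 (Involution.mul_self ho) hr hrt)]
    ext y
    have h1 : t' • y = y ↔ t • (u⁻¹ • y) = u⁻¹ • y := by
      rw [ht', mul_smul, mul_smul, smul_eq_iff_eq_inv_smul]
    have h2' : s • y = y ↔ s • (u⁻¹ • y) = u⁻¹ • y := by
      rw [smul_smul, eq_inv_smul_iff, smul_smul, show u * (s * u⁻¹) = s by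
        rw [← mul_assoc, hus, mul_assoc, mul_inv_cancel, mul_one]]
    rw [mem_fixedBy, h1, mem_fixedBy, h2', ← mem_fixedBy, ← mem_fixedBy, heq]
  refine not_all_involutions C fun x hx => ?_
  by_cases hx1 : x = 1
  · exact hx1 ▸ H.one_mem
  obtain ⟨s₀, hs₀H, hs₀⟩ := Involution.exists_involution_mem C.even
  rw [← mem_iff_fix_one, ← mem_fixedBy, key x (Involution.orderOf_of_sq hx hx1), ← key s₀ hs₀,
    mem_fixedBy, mem_iff_fix_one]
  exact hs₀H

/-- A stabiliser containing the product of involutions at different points contains both. -/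
theorem Ctx.inverted_mem (C : Ctx M H) {s t : Cfsg.PSU 3 F q} (hs : s * s = 1) (hs1 : s ≠ 1)
    (ht : t * t = 1) (ht1 : t ≠ 1) {p p' : IsoLine 3 F q} (hp : act M.card s p = p)
    (hp' : act M.card t p' = p') (hne : p ≠ p') (h : s * t ∈ H) : s ∈ H ∧ t ∈ H := by
  have hs' := Involution.orderOf_of_sq hs hs1
  have ht' := Involution.orderOf_of_sq ht ht1
  have := mem_iff_fix_one.1 (inverted_fix C.one C.bin hs' ht' (C.fix_sep hs' ht' hp hp' hne)
    (mem_iff_fix_one.2 h))
  refine ⟨?_, this⟩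
  have h2 := H.mul_mem h this
  rwa [mul_assoc, ht, mul_one] at h2

end Cfsg.Agent.BinaryOneClass
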