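import Cfsg.Agent.Lib.BinaryOneClass.Collinear
/-!
# No line of full points (owner: helper88, for S5735)

`Ctx.not_line` : a stabiliser of even order in a binary action of `PSU₃(q)` cannot contain the
involutions at two different points.

The stabiliser would preserve the line, so fix its pole `e`; on the diagonal torus it is governed by
the set of third entries, and one of the three lines of the frame gives a contradiction.
-/

set_option autoImplicit false
set_option linter.unusedSectionVars false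

namespace Cfsg.Agent.BinaryOneClass

open Cfsg.Agent.Unitary Cfsg.Agent.SuzukiRankOne

variable {F : Type} [Field F] [Fintype F] {q : ℕ} {M : Model F q}
  {H : Subgroup (Cfsg.PSU 3 F q)} {l : F} (hl : l + l ^ q = 1)

local notation "A₀" => aPt M.card M.two
local notation "B₀" => bPt M.card M.two hl
local notation "U" => unip M.card M.two

/-- The point of a vector. -/
abbrev pt (v : Fin 3 → F) (hv : v ≠ 0) (h0 : Cfsg.hermForm 3 F q v v = 0) : IsoLine 3 F q :=
  IsoLine.mk v hv h0

theorem full_line (C : Ctx M H) (ha : Full M H A₀) (hb : Full M H B₀) {v : Fin 3 → F} (hv : v ≠ 0)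
    (h0 : Cfsg.hermForm 3 F q v v = 0) : Full M H (pt v hv h0) ↔ v 2 = 0 := by
  by_cases hp : pt v hv h0 = A₀
  · refine iff_of_true (hp ▸ ha) ?_
    rw [pt, aPt, IsoLine.mk_eq_iff] at hp
    obtain ⟨c, hc⟩ := hp
    simp [← hc, rVec]
  obtain ⟨u, hu⟩ := exists_unip_move M.card M.two hl hp
  have hA : coordA u = 0 ↔ v 2 = 0 := by
    have h := hu
    rw [act_unip, bPt, IsoLine.smul_mk, pt, IsoLine.mk_eq_iff] at h
    obtain ⟨c, hc⟩ := h
    have h3 := congrFun hc 2
    have h00 := congrFun hc 0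
    have h01 := congrFun hc 1
    rw [syl_s M.card M.two u] at h3 h00 h01
    simp at h3 h00 h01
    have hc0 : c ≠ 0 := fun h => by
      rw [h, zero_mul] at h00 h01
      exact one_ne_zero (show (1 : F) = 0 by linear_combination h00 - h01)
    rw [← h3, mul_eq_zero, or_iff_right hc0]
  rw [← hA]
  refine ⟨fun h => C.collinear hl ha hb (v := u) (by rwa [hu]), fun h => hu ▸ full_smul ?_ hb⟩
  exact ha _ (by rw [← map_mul, (Unitary.sq_eq_one_iff u).2 h, map_one]) (unip_fix M.card M.two u)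

include hl in
theorem fix_pole (C : Ctx M H) (ha : Full M H A₀) (hb : Full M H B₀) {g : Cfsg.SU 3 F q}
    (hg : (g : Cfsg.PSU 3 F q) ∈ H) : suAct g (eVec F) 0 = 0 ∧ suAct g (eVec F) 1 = 0 := by
  have key : ∀ k : Cfsg.SU 3 F q, (k : Cfsg.PSU 3 F q) ∈ H →
      suAct k ![1, 0, 0] 2 = 0 ∧ suAct k ![0, 1, 0] 2 = 0 := by
    intro k hk
    have hr := full_smul hk ha
    rw [act_coe, aPt, IsoLine.smul_mk] at hr
    have hr' := (full_line hl C ha hb _ _).1 hr
    have hs := full_smul hk hb
    rw [act_coe, bPt, IsoLine.smul_mk] at hs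
    have hs' := (full_line hl C ha hb _ _).1 hs
    rw [show rVec F = ![1, 0, 0] + ![0, 1, 0] by ext i; fin_cases i <;> simp [rVec],
      suAct_add, Pi.add_apply] at hr'
    rw [show sVec l = l • ![1, 0, 0] + (l + 1) • ![0, 1, 0] by ext i; fin_cases i <;> simp [sVec],
      suAct_add, suAct_smul, suAct_smul, Pi.add_apply, Pi.smul_apply, Pi.smul_apply] at hs'
    simp only [smul_eq_mul] at hs'
    constructor <;> [linear_combination (l + 1) * hr' - hs'; linear_combination hs' - l * hr']
  have hk := key g⁻¹ (by rw [QuotientGroup.mk_inv]; exact H.inv_mem hg)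
  have hh : ∀ x, (suAct g⁻¹ x 2) = Cfsg.hermForm 3 F q x (suAct g (eVec F)) := by
    intro x
    rw [← suAct_herm g⁻¹, suAct_inv_suAct, herm_three M.card]
    simp [eVec, zero_pow_q M.card]
  rw [hh, hh, herm_three M.card, herm_three M.card] at hk
  simp at hk
  exact ⟨hk.1.1, hk.2.1⟩

/-- Diagonal data of determinant one and norm one. -/
def Adm (F : Type) [Field F] (q : ℕ) : Type :=
  {d : Fin 3 → F // (∀ i, d i ^ (q + 1) = 1) ∧ d 0 * d 1 * d 2 = 1}

/-- The image of a diagonal element. -/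
def dP (M : Model F q) (d : Adm F q) : Cfsg.PSU 3 F q := (dgEl M.card d.1 d.2.1 d.2.2 : _)

theorem dP_mul (d d' e : Adm F q) (h : ∀ i, e.1 i = d.1 i * d'.1 i) :
    dP M e = dP M d * dP M d' := by
  rw [dP, dP, dP, ← QuotientGroup.mk_mul]
  congr 1
  refine suAct_ext fun x => ?_
  rw [suAct_mul, dgEl_act, dgEl_act, dgEl_act]
  ext i
  rw [h, mul_assoc]

theorem Adm.ne (d : Adm F q) (i : Fin 3) : d.1 i ≠ 0 := fun h => by
  have := d.2.1 i
  simp [h] at this

/-- The cyclic permutation in `PSU₃`. -/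
abbrev nP : Cfsg.PSU 3 F q := (cycEl : Cfsg.SU 3 F q)

theorem nP_conj (d e : Adm F q) (h0 : e.1 0 = d.1 1) (h1 : e.1 1 = d.1 2) (h2 : e.1 2 = d.1 0) :
    (nP (F := F) (q := q))⁻¹ * dP M d * nP = dP M e := by
  rw [mul_assoc, inv_mul_eq_iff_eq_mul, dP, dP, ← QuotientGroup.mk_mul, ← QuotientGroup.mk_mul]
  congr 1
  refine suAct_ext fun x => ?_
  rw [suAct_mul, suAct_mul, dgEl_act, dgEl_act, cycEl_act, cycEl_act]
  ext i
  fin_cases i <;> simp [h0, h1, h2]

/-- The monomial involutions. -/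
abbrev swP (M : Model F q) (c : F) (hc : c ^ (q + 1) = 1) : Cfsg.PSU 3 F q :=
  (swEl M.two c hc : _)

theorem swP_sq (c : F) (hc : c ^ (q + 1) = 1) : swP M c hc * swP M c hc = 1 := by
  have hc0 : c ≠ 0 := fun h => by simp [h] at hc
  rw [← QuotientGroup.mk_mul]
  refine coe_eq_one M.card (c := 1) fun x => ?_
  rw [suAct_mul, swEl_act, swEl_act]
  ext i
  fin_cases i <;> simp [hc0]

theorem sw_ne (c : F) : (![c, 1, 0] : Fin 3 → F) ≠ 0 := fun h => by simpa using congrFun h 1

theorem sw_iso (M : Model F q) (c : F) (hc : c ^ (q + 1) = 1) :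
    Cfsg.hermForm 3 F q (![c, 1, 0] : Fin 3 → F) ![c, 1, 0] = 0 := by
  rw [herm_three M.card]
  simp [zero_pow_q M.card]
  rw [pow_succ'] at hc
  linear_combination hc + M.two

theorem swP_fix (c : F) (hc : c ^ (q + 1) = 1) :
    act M.card (swP M c hc) (pt ![c, 1, 0] (sw_ne c) (sw_iso M c hc)) =
      pt ![c, 1, 0] (sw_ne c) (sw_iso M c hc) := by
  have hc0 : c ≠ 0 := fun h => by simp [h] at hc
  rw [act_coe, pt, IsoLine.smul_mk, IsoLine.mk_eq_iff]
  refine ⟨1, ?_⟩
  rw [one_smul, swEl_act]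
  simp [hc0]

theorem swP_ne (c : F) (hc : c ^ (q + 1) = 1) : swP M c hc ≠ 1 := fun h => by
  obtain ⟨k, hk⟩ := scalar_of_coe_eq_one M.card h
  have h1 := congrFun (hk ![1, 0, 0]) 1
  rw [swEl_act] at h1
  simp at h1
  simp [h1] at hc

theorem exists_lam (M : Model F q) : ∃ c : F, c ^ (q + 1) = 1 ∧ c ≠ 1 ∧ c ^ 3 ≠ 1 := by
  obtain ⟨ζ, hζ, hord⟩ := exists_norm_one_gen M.card
  have := M.four_le
  refine ⟨ζ, hζ, fun h => ?_, fun h => ?_⟩
  · rw [h, orderOf_one] at hord; omega
  · have := Nat.le_of_dvd (by norm_num) (orderOf_dvd_of_pow_eq_one h)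
    omega

include hl in
theorem Ctx.not_line (C : Ctx M H) (ha : Full M H A₀) (hb : Full M H B₀) : False := by
  have hfl := fun {v : Fin 3 → F} (hv : v ≠ 0) (h0 : Cfsg.hermForm 3 F q v v = 0) =>
    full_line hl C ha hb hv h0
  have h1 : (1 : F) ^ (q + 1) = 1 := one_pow _
  have hsw : ∀ (c : F) (hc : c ^ (q + 1) = 1), swP M c hc ∈ H := fun c hc =>
    (hfl (sw_ne c) (sw_iso M c hc)).2 (by simp) _ (swP_sq c hc) (swP_fix c hc)
  -- the third entry determines membership
  have P_of : ∀ d e : Adm F q, d.1 2 = e.1 2 → dP M d ∈ H → dP M e ∈ H := by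
    intro d e h hd
    have hc : (e.1 0 / d.1 0) ^ (q + 1) = 1 := by rw [div_pow, e.2.1, d.2.1, div_one]
    have hc0 : e.1 0 / d.1 0 ≠ 0 := div_ne_zero (e.ne 0) (d.ne 0)
    let k : Adm F q := ⟨![e.1 0 / d.1 0, (e.1 0 / d.1 0)⁻¹, 1], fun i => by
      fin_cases i
      · simpa using hc
      · simp only [Fin.mk_one, Matrix.cons_val_one, Matrix.cons_val_zero, inv_pow, hc, inv_one]
      · simp, by simp [hc0, d.ne 0, e.ne 0]⟩
    have hk : dP M k = swP M _ hc * swP M 1 h1 := by
      rw [dP, ← QuotientGroup.mk_mul]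
      congr 1
      refine suAct_ext fun x => ?_
      rw [suAct_mul, dgEl_act, swEl_act, swEl_act]
      ext i
      fin_cases i <;> simp [k]
    rw [dP_mul k d e fun i => ?_, hk]
    · exact H.mul_mem (H.mul_mem (hsw _ _) (hsw _ _)) hd
    · fin_cases i
      · simp [k, div_mul_cancel₀ _ (d.ne 0)]
      · simp only [k, Fin.mk_one, Matrix.cons_val_one, Matrix.cons_val_zero]
        rw [inv_div, div_mul_eq_mul_div, eq_div_iff (e.ne 0)]
        refine mul_right_cancel₀ (e.ne 2) ?_
        linear_combination e.2.2 - d.2.2 + d.1 0 * d.1 1 * h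
      · simp [k, h]
  obtain ⟨c, hc, hc1, hc3⟩ := exists_lam M
  have hc0 : c ≠ 0 := fun h => by simp [h] at hc
  have hci : c⁻¹ ^ (q + 1) = 1 := by rw [inv_pow, hc, inv_one]
  let da : Adm F q := ⟨![1, c⁻¹, c], fun i => by
    fin_cases i
    · simp
    · simpa using hci
    · simpa using hc, by simp [hc0]⟩
  let db : Adm F q := ⟨![c⁻¹, 1, c], fun i => by
    fin_cases i
    · simpa using hci
    · simp
    · simpa using hc, by simp [hc0]⟩
  let dc : Adm F q := ⟨![c, c⁻¹, 1], fun i => by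
    fin_cases i
    · simpa using hc
    · simpa using hci
    · simp, by simp [hc0]⟩
  let done' : Adm F q := ⟨![1, 1, 1], fun i => by fin_cases i <;> simp, by simp⟩
  have hone : dP M done' ∈ H := by
    have : dP M done' = 1 := coe_eq_one M.card (c := 1) fun x => by
      rw [dgEl_act]
      ext i
      fin_cases i <;> simp [done']
    rw [this]; exact H.one_mem
  by_cases hP : ∃ d : Adm F q, d.1 2 = c ∧ dP M d ∈ H
  · -- the product of two involutions off the line
    obtain ⟨d, hd2, hd⟩ := hP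
    have hA : dP M da ∈ H := P_of d da (by simp [da, hd2]) hd
    let N : Cfsg.PSU 3 F q := nP
    have heq : dP M da = (N * swP M c⁻¹ hci * N⁻¹) * (N * swP M 1 h1 * N⁻¹) := by
      rw [conj_mul, eq_mul_inv_iff_mul_eq, dP, ← QuotientGroup.mk_mul, ← QuotientGroup.mk_mul,
        ← QuotientGroup.mk_mul]
      congr 1
      refine suAct_ext fun x => ?_
      rw [suAct_mul, suAct_mul, suAct_mul, dgEl_act, swEl_act, swEl_act, cycEl_act, cycEl_act]
      ext i
      fin_cases i <;> simp [da]
    have hne : act M.card N (pt ![c⁻¹, 1, 0] (sw_ne _) (sw_iso M _ hci)) ≠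
        act M.card N (pt ![1, 1, 0] (sw_ne _) (sw_iso M _ h1)) := fun h => hc1 (by
      have h' := act_inj M.card N h
      rw [pt, pt, IsoLine.mk_eq_iff] at h'
      obtain ⟨k, hk⟩ := h'
      have e0 := congrFun hk 0
      have e1 := congrFun hk 1
      simp at e0 e1
      rw [e1] at e0
      exact inv_eq_one.1 e0.symm)
    have hsq : ∀ (z : F) (hz : z ^ (q + 1) = 1), N * swP M z hz * N⁻¹ * (N * swP M z hz * N⁻¹) = 1 :=
      fun z hz => by rw [conj_mul, swP_sq, mul_one, mul_inv_cancel]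
    have hn1 : ∀ (z : F) (hz : z ^ (q + 1) = 1), N * swP M z hz * N⁻¹ ≠ 1 := fun z hz h =>
      swP_ne z hz (by rwa [mul_inv_eq_one, mul_eq_left] at h)
    obtain ⟨-, ht⟩ := C.inverted_mem (hsq _ hci) (hn1 _ hci) (hsq _ h1) (hn1 _ h1)
      ((act_conj_iff M.card N _ _).2 (swP_fix _ hci)) ((act_conj_iff M.card N _ _).2 (swP_fix _ h1))
      hne (heq ▸ hA)
    have hfull := C.full_of_mem ht (hsq _ h1) (hn1 _ h1)
      ((act_conj_iff M.card N _ _).2 (swP_fix _ h1))
    rw [act_coe, pt, IsoLine.smul_mk, hfl, cycEl_act] at hfull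
    simp at hfull
  · -- the frame
    push Not at hP
    let g₀ : Cfsg.PSU 3 F q := nP
    have e0 : g₀⁻¹ * dP M da * g₀ ∈ H := by
      let k : Adm F q := ⟨![c⁻¹, c, 1], fun i => by
        fin_cases i
        · simpa using hci
        · simpa using hc
        · simp, by simp [hc0]⟩
      rw [nP_conj da k (by simp [da, k]) (by simp [da, k]) (by simp [da, k])]
      exact P_of done' k (by simp [done', k]) hone
    have e1 : (g₀ * g₀)⁻¹ * dP M db * (g₀ * g₀) ∈ H := by
      let k : Adm F q := ⟨![1, c, c⁻¹], fun i => by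
        fin_cases i
        · simp
        · simpa using hc
        · simpa using hci, by simp [hc0]⟩
      rw [mul_inv_rev, show g₀⁻¹ * g₀⁻¹ * dP M db * (g₀ * g₀) =
          g₀⁻¹ * (g₀⁻¹ * dP M db * g₀) * g₀ by group,
        nP_conj db k (by simp [db, k]) (by simp [db, k]) (by simp [db, k]),
        nP_conj k dc (by simp [dc, k]) (by simp [dc, k]) (by simp [dc, k])]
      exact P_of done' dc (by simp [done', dc]) hone
    have e2 : (1 : Cfsg.PSU 3 F q)⁻¹ * dP M dc * 1 ∈ H := by
      simpa using P_of done' dc (by simp [done', dc]) hone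
    have habc : dP M da = dP M db * dP M dc := dP_mul db dc da fun i => by
      fin_cases i <;> simp [da, db, dc, hc0]
    obtain ⟨e, he0, he1, he2⟩ := C.bin.triangle e0 e1 e2 habc
    obtain ⟨g, rfl⟩ := QuotientGroup.mk_surjective e
    -- `g` is diagonal
    let n : Cfsg.SU 3 F q := cycEl
    have hcol : ∀ k : Cfsg.SU 3 F q, (k : Cfsg.PSU 3 F q)⁻¹ * g * k ∈ H →
        ∃ z : F, suAct g (suAct k (eVec F)) = z • suAct k (eVec F) := by
      intro k hk
      rw [← QuotientGroup.mk_inv, ← QuotientGroup.mk_mul, ← QuotientGroup.mk_mul] at hk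
      obtain ⟨p0, p1⟩ := fix_pole hl C ha hb hk
      refine ⟨suAct (k⁻¹ * g * k) (eVec F) 2, ?_⟩
      have : suAct (k⁻¹ * g * k) (eVec F) = suAct (k⁻¹ * g * k) (eVec F) 2 • eVec F := by
        ext i
        fin_cases i <;> simp [eVec] at p0 p1 ⊢ <;> assumption
      conv_rhs => rw [← suAct_smul, ← this, ← suAct_mul, mul_assoc, mul_inv_cancel_left]
      rw [suAct_mul]
    obtain ⟨x, hx⟩ := hcol n he0
    obtain ⟨y, hy⟩ := hcol (n * n) (by rw [QuotientGroup.mk_mul]; exact he1)
    have v0 : suAct n (eVec F) = ![1, 0, 0] := by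
      rw [cycEl_act]; simp [eVec]
    have v1 : suAct (n * n) (eVec F) = ![0, 1, 0] := by
      rw [suAct_mul, v0, cycEl_act]; simp
    rw [v0] at hx
    rw [v1] at hy
    have H3 := hermForm_isHerm M.card 3
    obtain ⟨w, hw⟩ : ∃ w, w = suAct g ![0, 0, 1] := ⟨_, rfl⟩
    have herm_std : ∀ a b : Fin 3 → F, Cfsg.hermForm 3 F q a b =
        a 0 * b 0 ^ q + a 1 * b 1 ^ q + a 2 * b 2 ^ q := herm_three M.card
    have hxn : x ^ (q + 1) = 1 := by
      have h := suAct_herm g ![1, 0, 0] ![1, 0, 0]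
      rw [hx, H3.smul_left, H3.smul_right, herm_std] at h
      simp [zero_pow_q M.card] at h
      rw [pow_succ']; exact h
    have hyn : y ^ (q + 1) = 1 := by
      have h := suAct_herm g ![0, 1, 0] ![0, 1, 0]
      rw [hy, H3.smul_left, H3.smul_right, herm_std] at h
      simp [zero_pow_q M.card] at h
      rw [pow_succ']; exact h
    have hx0 : x ≠ 0 := fun h => by simp [h] at hxn
    have hy0 : y ≠ 0 := fun h => by simp [h] at hyn
    have hw0 : w 0 = 0 := by
      have h := suAct_herm g ![0, 0, 1] ![1, 0, 0]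
      rw [← hw, hx, H3.smul_right, herm_std, herm_std] at h
      simp [zero_pow_q M.card] at h
      exact h.resolve_left fun h => hx0 h.1
    have hw1 : w 1 = 0 := by
      have h := suAct_herm g ![0, 0, 1] ![0, 1, 0]
      rw [← hw, hy, H3.smul_right, herm_std, herm_std] at h
      simp [zero_pow_q M.card] at h
      exact h.resolve_left fun h => hy0 h.1
    have hzn : w 2 ^ (q + 1) = 1 := by
      have h := suAct_herm g ![0, 0, 1] ![0, 0, 1]
      rw [← hw, herm_std, herm_std] at h
      simp [zero_pow_q M.card, hw0, hw1] at h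
      rw [pow_succ']; exact h
    have hmat : ((g : Matrix.SpecialLinearGroup (Fin 3) F) : Matrix (Fin 3) (Fin 3) F) =
        Matrix.diagonal ![x, y, w 2] := by
      refine Matrix.ext_iff_mulVec.2 fun v => ?_
      have hv : v = v 0 • ![1, 0, 0] + v 1 • ![0, 1, 0] + v 2 • ![0, 0, 1] := by
        ext i; fin_cases i <;> simp
      show suAct g v = _
      conv_lhs => rw [hv]
      rw [suAct_add, suAct_add, suAct_smul, suAct_smul, suAct_smul, hx, hy, ← hw]
      ext i
      fin_cases i <;> simp [Matrix.mulVec_diagonal, hw0, hw1] <;> ring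
    have hdet : x * y * w 2 = 1 := by
      have h := (g : Matrix.SpecialLinearGroup (Fin 3) F).2
      rw [hmat, Matrix.det_diagonal, Fin.prod_univ_three] at h
      simpa using h
    let δ : Adm F q := ⟨![x, y, w 2], fun i => by
      fin_cases i
      · simpa using hxn
      · simpa using hyn
      · simpa using hzn, by simpa using hdet⟩
    have hδ : (g : Cfsg.PSU 3 F q) = dP M δ := by
      rw [dP]; congr 1
      exact suAct_ext fun v => by
        rw [dgEl_act, suAct, hmat]; ext i; simp [Matrix.mulVec_diagonal, δ]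
    rw [hδ] at he0 he1 he2
    let δ₁ : Adm F q := ⟨![y, w 2, x], fun i => by
      fin_cases i
      · simpa using hyn
      · simpa using hzn
      · simpa using hxn, by simp; linear_combination hdet⟩
    let δ₂ : Adm F q := ⟨![w 2, x, y], fun i => by
      fin_cases i
      · simpa using hzn
      · simpa using hxn
      · simpa using hyn, by simp; linear_combination hdet⟩
    rw [nP_conj δ δ₁ (by simp [δ, δ₁]) (by simp [δ, δ₁]) (by simp [δ, δ₁])] at he0
    rw [mul_inv_rev, show g₀⁻¹ * g₀⁻¹ * dP M δ * (g₀ * g₀) = g₀⁻¹ * (g₀⁻¹ * dP M δ * g₀) * g₀ by group,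
      nP_conj δ δ₁ (by simp [δ, δ₁]) (by simp [δ, δ₁]) (by simp [δ, δ₁]),
      nP_conj δ₁ δ₂ (by simp [δ₁, δ₂]) (by simp [δ₁, δ₂]) (by simp [δ₁, δ₂])] at he1
    simp only [inv_one, one_mul, mul_one] at he2
    -- third entries multiply to `c`
    let p : Adm F q := ⟨fun i => δ₁.1 i * δ₂.1 i, fun i => by
      rw [mul_pow, δ₁.2.1, δ₂.2.1, one_mul], by
      linear_combination (δ₂.1 0 * δ₂.1 1 * δ₂.1 2) * δ₁.2.2 + δ₂.2.2⟩
    have hp : dP M p ∈ H := dP_mul δ₁ δ₂ p (fun i => rfl) ▸ H.mul_mem he0 he1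
    let r : Adm F q := ⟨fun i => (δ.1 i)⁻¹ * da.1 i, fun i => by
      rw [mul_pow, inv_pow, δ.2.1, da.2.1, inv_one, one_mul], by
      simp [δ, da, eq_inv_of_mul_eq_one_right hdet]
      field_simp⟩
    have hr : dP M r ∈ H := by
      have : dP M da = dP M δ * dP M r := dP_mul δ r da fun i => by
        simp only [r]; rw [mul_inv_cancel_left₀ (δ.ne i)]
      rw [this, inv_mul_cancel_left] at he2
      exact he2
    let pi : Adm F q := ⟨fun i => (p.1 i)⁻¹, fun i => by rw [inv_pow, p.2.1, inv_one], by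
      rw [← mul_inv, ← mul_inv, p.2.2, inv_one]⟩
    have hpi : dP M pi ∈ H := by
      have h1' : dP M done' = dP M p * dP M pi := dP_mul p pi done' fun i => by
        simp only [pi]; rw [mul_inv_cancel₀ (p.ne i)]; fin_cases i <;> simp [done']
      have := H.mul_mem (H.inv_mem hp) hone
      rwa [h1', inv_mul_cancel_left] at this
    let s : Adm F q := ⟨fun i => pi.1 i * r.1 i, fun i => by
      rw [mul_pow, pi.2.1, r.2.1, one_mul], by
      linear_combination (r.1 0 * r.1 1 * r.1 2) * pi.2.2 + r.2.2⟩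
    refine hP s ?_ (dP_mul pi r s (fun i => rfl) ▸ H.mul_mem hpi hr)
    simp [s, pi, r, p, δ, δ₁, δ₂, da, eq_inv_of_mul_eq_one_right hdet]
    field_simp

end Cfsg.Agent.BinaryOneClass
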