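import Cfsg.Agent.Lib.BinaryOneClass.PointCase
import Cfsg.Agent.Lib.BinaryOneClass.Backward
import Cfsg.Agent.S5736
import Cfsg.Agent.S5737
/-!
# Binary coset actions of simple groups with one class of involutions (owner: helper88, for S5735)

`binary_iff_of_rankOneHalf` : the statement of S5735, from `RankOneHalf`.
-/

set_option autoImplicit false
set_option linter.style.haveILetI false
set_option linter.unusedSectionVars false

namespace Cfsg.Agent.BinaryOneClass

open Cfsg.Agent.Unitary Cfsg.Agent.SuzukiRankOne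

universe u

/-- The centre of a subgroup, as a subgroup of the group. -/
abbrev zen {G : Type*} [Group G] (K : Subgroup G) : Subgroup G :=
  (Subgroup.center K).map K.subtype

theorem zen_sylow_map {G G' : Type*} [Group G] [Group G'] [Finite G] (f : G ≃* G') (P : Sylow 2 G) :
    ∃ P' : Sylow 2 G', (P' : Subgroup G') = (P : Subgroup G).map f.toMonoidHom ∧
      zen (P' : Subgroup G') = (zen (P : Subgroup G)).map f.toMonoidHom := by
  refine ⟨P.mapSurjective (f := f.toMonoidHom) f.surjective, rfl, ?_⟩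
  exact S5737.center_map_equiv f (P : Subgroup G)

theorem map_map_symm {G G' : Type*} [Group G] [Group G'] (f : G ≃* G') (H : Subgroup G) :
    (H.map f.toMonoidHom).map f.symm.toMonoidHom = H := by
  rw [Subgroup.map_map]
  ext x
  simp

theorem map_ne_top {G G' : Type*} [Group G] [Group G'] (f : G ≃* G') {H : Subgroup G} (hH : H ≠ ⊤) :
    H.map f.toMonoidHom ≠ ⊤ := fun h => hH (by
  rw [← map_map_symm f H, h, Subgroup.map_top_of_surjective _ f.symm.surjective])

theorem card_map {G G' : Type*} [Group G] [Group G'] (f : G ≃* G') (H : Subgroup G) :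
    Nat.card (H.map f.toMonoidHom) = Nat.card H :=
  (Nat.card_congr (H.equivMapOfInjective _ f.injective).toEquiv).symm

section model

variable {F : Type} [Field F] [Fintype F] {q : ℕ} {M : Model F q}
  {H : Subgroup (Cfsg.PSU 3 F q)}

theorem Ctx.exists_point (C : Ctx M H) :
    ∃ p, ∀ x, x ∈ H ↔ x * x = 1 ∧ act M.card x p = p := by
  obtain ⟨l, hl⟩ := M.exists_l
  obtain ⟨p, hp⟩ := C.exists_full
  obtain ⟨g, rfl⟩ := exists_map_point M.card M.two p
  refine ⟨act M.card g (aPt M.card M.two), fun x => ?_⟩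
  have ha : Full M (cj g⁻¹ H) (aPt M.card M.two) := by
    have h := (full_cj (g := g⁻¹)).2 hp
    rwa [act_inv_act] at h
  have huniq : ∀ r, Full M (cj g⁻¹ H) r → r = aPt M.card M.two := by
    intro r hr
    by_contra hne
    obtain ⟨v, rfl⟩ := exists_unip_move M.card M.two hl hne
    refine Ctx.not_line hl ((C.conj g⁻¹).conj (unip M.card M.two v)⁻¹) ?_ ?_
    · have h := (full_cj (g := (unip M.card M.two v)⁻¹)).2 ha
      rwa [act_inv M.card (unip_fix M.card M.two v)] at h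
    · have h := (full_cj (g := (unip M.card M.two v)⁻¹)).2 hr
      rwa [act_inv_act] at h
  have h := Ctx.mem_iff hl (C.conj g⁻¹) ha huniq (g⁻¹ * x * g⁻¹⁻¹)
  rw [mem_cj, inv_inv, show g * (g⁻¹ * x * g) * g⁻¹ = x by group] at h
  rw [h]
  refine and_congr ⟨fun h => ?_, fun h => sq_conj h g⟩ ⟨act_conj'' M g x, act_conj' M g x⟩
  rw [← BinaryPSL.conj_mul_eq] at h
  exact (BinaryPSL.conj_eq_one_iff _ _).1 h

theorem Ctx.exists_sylow (C : Ctx M H) : ∃ P : Sylow 2 (Cfsg.PSU 3 F q), H = zen P := by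
  haveI : Fact (Nat.Prime 2) := ⟨Nat.prime_two⟩
  obtain ⟨p, hp⟩ := C.exists_point
  obtain ⟨P₀⟩ : Nonempty (Sylow 2 (Cfsg.PSU 3 F q)) := Sylow.nonempty
  obtain ⟨p₀, hp₀⟩ := center_sylow M P₀
  obtain ⟨l, hl⟩ := M.exists_l
  obtain ⟨g, hg⟩ : ∃ g, act M.card g p₀ = p := by
    obtain ⟨a, ha⟩ := exists_map_point M.card M.two p₀
    obtain ⟨b, hb⟩ := exists_map_point M.card M.two p
    exact ⟨b * a⁻¹, by rw [act_mul, ← ha, act_inv_act, hb]⟩
  obtain ⟨P, -, hP⟩ := zen_sylow_map (MulAut.conj g) P₀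
  refine ⟨P, Subgroup.ext fun x => ?_⟩
  rw [hP, BinaryPSL.mem_conj_iff, hp₀, hp, ← hg]
  refine and_congr ⟨fun h => sq_conj h g, fun h => ?_⟩ ⟨act_conj' M g x, act_conj'' M g x⟩
  rw [← BinaryPSL.conj_mul_eq] at h
  exact (BinaryPSL.conj_eq_one_iff _ _).1 h

end model

variable {G : Type u} [Group G] [Finite G]

/-- Bender's three families, with the parameters of S5735. -/
theorem three_families [IsSimpleGroup G] (hR : Bender.RankOneHalf.{u}) {M : Subgroup G}
    (hM : Cfsg.IsStronglyEmbedded M) :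
    (∃ (F : Type) (_ : Field F) (_ : Fintype F) (n : ℕ), 2 ≤ n ∧ Fintype.card F = 2 ^ n ∧
        Nonempty (G ≃* Matrix.ProjectiveSpecialLinearGroup (Fin 2) F)) ∨
      Cfsg.Lie.IsoSuzuki G ∨
      (∃ (F : Type) (_ : Field F) (_ : Fintype F) (n : ℕ), 2 ≤ n ∧ Fintype.card F = (2 ^ n) ^ 2 ∧
        Nonempty (G ≃* Cfsg.PSU 3 F (2 ^ n))) := by
  have hcore := Bender.normalCore_of_simple hM
  have h2 := two_involutions_of_simple hM
  obtain ⟨t, Q, h⟩ := hR G M hM hcore h2
  haveI := Bender.faithful_of_normalCore hcore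
  obtain ⟨L, hL, hodd, hc⟩ := classify kernelShape Suzuki.suzukiShape h h2
  obtain rfl : L = ⊤ := hL.eq_bot_or_eq_top.resolve_left fun e => by
    rw [e, Subgroup.index_bot] at hodd
    exact Nat.not_even_iff_odd.2 hodd (even_iff_two_dvd.2
      ((Involution.orderOf_of_sq h.mul_self h.ne_one) ▸ orderOf_dvd_natCard t))
  rcases hc with ⟨F, _, _, ⟨n, hn, hF⟩, ⟨e⟩⟩ | ⟨F, _, _, m, hm, hF, ⟨e⟩⟩ | ⟨F, _, _, n, hn, hF, ⟨e⟩⟩
  · exact Or.inl ⟨F, _, _, n, hn, hF, ⟨Subgroup.topEquiv.symm.trans e⟩⟩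
  · exact Or.inr (Or.inl ⟨F, _, _, m, hm, hF, ⟨Subgroup.topEquiv.symm.trans e⟩⟩)
  · exact Or.inr (Or.inr ⟨F, _, _, n, hn, hF, ⟨Subgroup.topEquiv.symm.trans e⟩⟩)

theorem psl_equiv {F : Type} [Field F] [Fintype F] {a : ℕ} (hF : Fintype.card F = 2 ^ a) :
    Nonempty (Matrix.ProjectiveSpecialLinearGroup (Fin 2) F ≃* Matrix.SpecialLinearGroup (Fin 2) F) := by
  haveI : Fact (Nat.Prime 2) := ⟨Nat.prime_two⟩
  haveI : CharP F 2 := charP_of_card_eq_prime_pow hF
  exact Bender.psl_equiv_sl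

theorem four_five {F : Type} [Fintype F] {a : ℕ} (ha : 2 ≤ a) (hF : Fintype.card F = 2 ^ a) :
    4 ≤ Fintype.card F ∧ Fintype.card F ≠ 5 := by
  refine ⟨hF ▸ Nat.pow_le_pow_right (by norm_num : 1 ≤ 2) ha, fun h => ?_⟩
  have hev : Even (2 ^ a) := Nat.even_pow.2 ⟨even_two, by omega⟩
  rw [← hF, h] at hev
  exact absurd hev (by decide)

/-- The statement of S5735, from `RankOneHalf`. -/
theorem binary_iff_of_rankOneHalf [IsSimpleGroup G] (hR : Bender.RankOneHalf.{u})
    (hone : ∀ s t : G, orderOf s = 2 → orderOf t = 2 → IsConj s t)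
    (H : Subgroup G) (hH : H ≠ ⊤) (heven : Even (Nat.card H)) :
    BinaryPSL.Binary H ↔
      (((∃ (F : Type) (_ : Field F) (_ : Fintype F) (a : ℕ), 2 ≤ a ∧ Fintype.card F = 2 ^ a ∧
            Nonempty (G ≃* Matrix.SpecialLinearGroup (Fin 2) F)) ∧
          ∃ P : Sylow 2 G, H = P) ∨
        (Cfsg.Lie.IsoSuzuki G ∧ ∃ P : Sylow 2 G, H = zen (P : Subgroup G)) ∨
        ((∃ (F : Type) (_ : Field F) (_ : Fintype F) (a : ℕ), 2 ≤ a ∧ Fintype.card F = (2 ^ a) ^ 2 ∧
            Nonempty (G ≃* Cfsg.PSU 3 F (2 ^ a))) ∧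
          ∃ P : Sylow 2 G, H = zen (P : Subgroup G))) := by
  haveI : Fact (Nat.Prime 2) := ⟨Nat.prime_two⟩
  constructor
  · intro hB
    obtain ⟨M, hM⟩ := exists_stronglyEmbedded hone hB hH heven
    rcases three_families hR hM with ⟨F, _, _, a, ha, hF, ⟨e⟩⟩ | hsz | ⟨F, _, _, a, ha, hF, ⟨e⟩⟩
    · obtain ⟨f⟩ := psl_equiv hF
      obtain ⟨h4, h5⟩ := four_five ha hF
      rcases (S5736.result h4 h5 _ (map_ne_top e hH)).1 ((binary_congr e).2 hB) with h | ⟨-, P, hP⟩ | ⟨-, h⟩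
      · have h' := card_map e H
        rw [h, Subgroup.card_bot] at h'
        rw [← h'] at heven
        exact absurd heven (by decide)
      · refine Or.inl ⟨⟨F, _, _, a, ha, hF, ⟨e.trans f⟩⟩, ?_⟩
        obtain ⟨P', hP', -⟩ := zen_sylow_map e.symm P
        exact ⟨P', by rw [hP', ← hP, map_map_symm]⟩
      · rw [card_map] at h
        rw [h] at heven
        exact absurd heven (by decide)
    · obtain ⟨F, _, _, m, hm, hF, ⟨e⟩⟩ := hsz
      rcases (S5737.result m hm hF _ (map_ne_top e hH)).1 ((binary_congr e).2 hB) with h | ⟨P, hP⟩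
      · have h' := card_map e H
        rw [h, Subgroup.card_bot] at h'
        rw [← h'] at heven
        exact absurd heven (by decide)
      · refine Or.inr (Or.inl ⟨⟨F, _, _, m, hm, hF, ⟨e⟩⟩, ?_⟩)
        obtain ⟨P', -, hP'⟩ := zen_sylow_map e.symm P
        exact ⟨P', by rw [hP', zen, ← hP, map_map_symm]⟩
    · haveI : Finite (Cfsg.PSU 3 F (2 ^ a)) := Finite.of_equiv G e.toEquiv
      haveI : Nontrivial (Cfsg.PSU 3 F (2 ^ a)) := e.symm.toEquiv.nontrivial
      have C : Ctx (Model.mk' ha hF) (H.map e.toMonoidHom) :=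
        { simple := IsSimpleGroup.isSimpleGroup_of_surjective e.toMonoidHom e.surjective
          one := fun s t hs ht => by
            have h := e.toMonoidHom.map_isConj (hone (e.symm s) (e.symm t)
              ((orderOf_injective e.symm.toMonoidHom e.symm.injective s).trans hs)
              ((orderOf_injective e.symm.toMonoidHom e.symm.injective t).trans ht))
            simpa using h
          bin := (binary_congr e).2 hB
          ne_top := map_ne_top e hH
          even := (card_map e H).symm ▸ heven }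
      obtain ⟨P, hP⟩ := C.exists_sylow
      refine Or.inr (Or.inr ⟨⟨F, _, _, a, ha, hF, ⟨e⟩⟩, ?_⟩)
      obtain ⟨P', -, hP'⟩ := zen_sylow_map e.symm P
      exact ⟨P', by rw [hP', ← hP, map_map_symm]⟩
  · rintro (⟨⟨F, _, _, a, ha, hF, ⟨e⟩⟩, P, rfl⟩ | ⟨⟨F, _, _, m, hm, hF, ⟨e⟩⟩, P, rfl⟩ |
      ⟨⟨F, _, _, a, ha, hF, ⟨e⟩⟩, P, rfl⟩)
    · obtain ⟨f⟩ := psl_equiv hF
      obtain ⟨h4, h5⟩ := four_five ha hF
      obtain ⟨P', hP', -⟩ := zen_sylow_map (e.trans f.symm) P
      exact (binary_congr (e.trans f.symm)).1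
        ((S5736.result h4 h5 _ (map_ne_top _ hH)).2 (Or.inr (Or.inl ⟨⟨a, hF⟩, P', hP'.symm⟩)))
    · obtain ⟨P', -, hP'⟩ := zen_sylow_map e P
      exact (binary_congr e).1
        ((S5737.result m hm hF _ (map_ne_top _ hH)).2 (Or.inr ⟨P', hP'.symm⟩))
    · obtain ⟨P', -, hP'⟩ := zen_sylow_map e P
      rw [← binary_congr e, ← hP']
      exact binary_centre (Model.mk' ha hF) P'

end Cfsg.Agent.BinaryOneClass
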