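import Cfsg.Agent.Lib.BinaryOneClass.LineCase
import Cfsg.Agent.Lib.BinaryOneClass.Cube
import Mathlib.GroupTheory.Perm.Cycle.Type
/-!
# One full point (owner: helper88, for S5735)

`Ctx.mem_iff` : if the base point is the only full point, the stabiliser consists of the
involutions at it and the identity.
-/

set_option autoImplicit false
set_option linter.unusedSectionVars false

namespace Cfsg.Agent.BinaryOneClass

open Cfsg.Agent.Unitary Cfsg.Agent.SuzukiRankOne

variable {F : Type} [Field F] [Fintype F] {q : ℕ} {M : Model F q}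
  {H : Subgroup (Cfsg.PSU 3 F q)} {l : F} (hl : l + l ^ q = 1)

local notation "A₀" => aPt M.card M.two
local notation "B₀" => bPt M.card M.two hl
local notation "U" => unip M.card M.two

include hl in
/-- An element of a stabiliser with one full point, fixing two points, has equal eigenvalues there. -/
theorem eigen_eq (C : Ctx M H) {p₀ : IsoLine 3 F q} (huniq : ∀ p, Full M H p → p = p₀)
    {g : Cfsg.SU 3 F q} (hg : (g : Cfsg.PSU 3 F q) ∈ H) (ha : g • A₀ = A₀) (hb : g • B₀ = B₀) :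
    ∃ lam ν : F, suAct g (rVec F) = lam • rVec F ∧ suAct g (sVec l) = lam • sVec l ∧
      suAct g (eVec F) = ν • eVec F ∧ lam ^ (q + 1) = 1 ∧ ν ^ (q + 1) = 1 ∧ ν * lam * lam = 1 := by
  obtain ⟨lam, μ, ν, hr, hs, he, h1, hν, hdet⟩ := eigen M.card M.two hl ha hb
  obtain ⟨c, hc⟩ : ∃ c, c = lam ^ (q + 1) := ⟨_, rfl⟩
  have hcq : c ^ q = c := by rw [hc, pow_q_succ_fixed M.card]
  obtain ⟨d, hd⟩ : ∃ d, d = μ ^ (q + 1) := ⟨_, rfl⟩
  have hcd : c * d = 1 := by
    have h := congrArg (fun a => a ^ (q + 1)) hdet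
    simp only [mul_pow, one_pow, hν, one_mul] at h
    rw [hc, hd]; exact h
  have hlam0 : lam ≠ 0 := left_ne_zero_of_mul_eq_one h1
  suffices hc1 : c = 1 by
    have hμ : μ = lam := by
      apply pow_q_injective M.card
      show μ ^ q = lam ^ q
      apply mul_left_cancel₀ hlam0
      rw [h1, ← pow_succ', ← hc, hc1]
    subst hμ
    exact ⟨μ, ν, hr, hs, he, hc ▸ hc1, hν, hdet⟩
  by_contra hc1
  have hpow : ∀ (v : Fin 3 → F) (ξ : F), suAct g v = ξ • v → ∀ n : ℕ,
      suAct (g ^ n) v = ξ ^ n • v := by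
    intro v ξ hv n
    induction n with
    | zero => simp
    | succ n ih => rw [pow_succ, suAct_mul, hv, suAct_smul, ih, smul_smul, mul_comm, ← pow_succ]
  have hG : ∀ x y z : F, suAct (g ^ (q + 1)) (vec3 l x y z) = vec3 l (c * x) y (d * z) := by
    intro x y z
    rw [suAct_vec3, hpow _ _ hr, hpow _ _ hs, hpow _ _ he, ← hc, ← hd, hν, vec3]
    simp [smul_smul, mul_comm]
  let S : Cfsg.SU 3 F q := g ^ (q + 1) * tElt M.card M.two hl
  have hS : ∀ x y z : F, suAct S (vec3 l x y z) = vec3 l (c * z) y (d * x) := fun x y z => by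
    rw [suAct_mul, tElt_vec3, hG]
  let sP : Cfsg.PSU 3 F q := (S : Cfsg.PSU 3 F q)
  have hsP : sP * sP = 1 := by
    show ((S * S : Cfsg.SU 3 F q) : Cfsg.PSU 3 F q) = 1
    refine coe_eq_one M.card (c := 1) fun v => ?_
    obtain ⟨x, y, z, rfl⟩ := exists_vec3 M.card M.two hl v
    rw [suAct_mul, hS, hS, one_smul, ← mul_assoc, hcd, one_mul, ← mul_assoc, mul_comm d, hcd,
      one_mul]
  have hne : ∀ z : F, vec3 l z (0 : F) 1 ≠ 0 := fun z h => by
    have h0 : vec3 l z (0 : F) 1 = vec3 l 0 0 0 := by rw [h]; simp [vec3]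
    exact one_ne_zero (vec3_inj M.two h0).2.2
  have hiso : ∀ z : F, z ^ q = z → Cfsg.hermForm 3 F q (vec3 l z 0 1) (vec3 l z 0 1) = 0 := by
    intro z hz
    rw [herm_vec3 M.card M.two hl, one_pow, hz, zero_pow_q M.card]
    linear_combination z * M.two
  let pc := IsoLine.mk (vec3 l c 0 1) (hne c) (hiso c hcq)
  let p1 := IsoLine.mk (vec3 l 1 0 1) (hne 1) (hiso 1 (one_pow q))
  have hfs : act M.card sP pc = pc := by
    rw [act_coe, IsoLine.smul_mk, IsoLine.mk_eq_iff]
    refine ⟨1, ?_⟩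
    rw [one_smul, hS, mul_one, mul_comm d, hcd]
  have hft : act M.card (tP M hl) p1 = p1 := by
    rw [act_coe, IsoLine.smul_mk, IsoLine.mk_eq_iff]
    exact ⟨1, by rw [one_smul, tElt_vec3]⟩
  have hpne : pc ≠ p1 := fun h => by
    rw [IsoLine.mk_eq_iff] at h
    obtain ⟨k, hk⟩ := h
    rw [smul_vec3] at hk
    obtain ⟨e1, -, e3⟩ := vec3_inj M.two hk
    simp at e1 e3
    exact hc1 (e1.symm.trans e3)
  have hs1 : sP ≠ 1 := fun h => by
    obtain ⟨k, hk⟩ := scalar_of_coe_eq_one M.card (g := S) h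
    have := hk (vec3 l 1 0 0)
    rw [hS, smul_vec3] at this
    obtain ⟨-, -, e3⟩ := vec3_inj M.two this
    simp at e3
    simp [e3] at hcd
  have ht1 : tP M hl ≠ 1 := fun h => bPt_ne_aPt M.card M.two hl (by rw [← tP_a (M := M) hl, h, act_one])
  have hprod : sP * tP M hl ∈ H := by
    have : sP * tP M hl = (g : Cfsg.PSU 3 F q) ^ (q + 1) := by
      show ((S : Cfsg.SU 3 F q) : Cfsg.PSU 3 F q) * _ = _
      rw [QuotientGroup.mk_mul, mul_assoc, tP_sq, mul_one, QuotientGroup.mk_pow]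
    rw [this]
    exact H.pow_mem hg _
  obtain ⟨h₁, h₂⟩ := C.inverted_mem hsP hs1 (tP_sq hl) ht1 hfs hft hpne hprod
  exact hpne ((huniq _ (C.full_of_mem h₁ hsP hs1 hfs)).trans
    (huniq _ (C.full_of_mem h₂ (tP_sq hl) ht1 hft)).symm)

include hl in
theorem no_fix_base (C : Ctx M H) (huniq : ∀ p, Full M H p → p = A₀) (ha : Full M H A₀)
    {d : Cfsg.PSU 3 F q} (hd : d ∈ H) (hdb : act M.card d B₀ = B₀) : d = 1 := by
  have hfixa : ∀ h ∈ H, act M.card h A₀ = A₀ := fun h hh => huniq _ (full_smul hh ha)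
  have hda := hfixa d hd
  obtain ⟨g, rfl⟩ := QuotientGroup.mk_surjective d
  obtain ⟨lam, ν, hr, hs, he, hlam, hν, hdet⟩ := eigen_eq hl C huniq hd hda hdb
  have hdiag : ∀ x : Fin 3 → F, suAct g x = ![lam * x 0, lam * x 1, ν * x 2] := fun x => by
    conv_lhs => rw [decompose M.card M.two hl x]
    simp only [suAct_add, suAct_smul, hr, hs, he, smul_smul]
    have hx := decompose M.card M.two hl x
    ext i
    fin_cases i
    · have := congrFun hx 0
      simp [rVec, sVec, eVec] at this ⊢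
      linear_combination -lam * this
    · have := congrFun hx 1
      simp [rVec, sVec, eVec] at this ⊢
      linear_combination -lam * this
    · simp [rVec, sVec, eVec, mul_comm]
  by_cases hνl : ν = lam
  · exact coe_eq_one M.card (c := lam) fun x => by
      rw [hdiag, hνl]; ext i; fin_cases i <;> simp
  exfalso
  have hlam0 : lam ≠ 0 := fun h => by simp [h] at hlam
  have hν0 : ν ≠ 0 := fun h => by simp [h] at hν
  let δ : Adm F q := ⟨![lam, lam, ν], fun i => by
    fin_cases i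
    · simpa using hlam
    · simpa using hlam
    · simpa using hν, by simp; linear_combination hdet⟩
  let δ₁ : Adm F q := ⟨![ν, lam, lam], fun i => by
    fin_cases i
    · simpa using hν
    · simpa using hlam
    · simpa using hlam, by simpa using hdet⟩
  let δ₂ : Adm F q := ⟨![lam, ν, lam], fun i => by
    fin_cases i
    · simpa using hlam
    · simpa using hν
    · simpa using hlam, by simp; linear_combination hdet⟩
  have hgδ : (g : Cfsg.PSU 3 F q) = dP M δ := by
    rw [dP]; congr 1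
    refine suAct_ext fun x => ?_
    rw [hdiag, dgEl_act]
    ext i
    fin_cases i <;> simp [δ]
  rw [hgδ] at hd
  let N : Cfsg.PSU 3 F q := nP
  have e0 : N⁻¹ * dP M δ₁ * N ∈ H := by
    rw [nP_conj δ₁ δ (by simp [δ, δ₁]) (by simp [δ, δ₁]) (by simp [δ, δ₁])]
    exact hd
  have e1 : (N * N)⁻¹ * (dP M δ₂)⁻¹ * (N * N) ∈ H := by
    have := H.inv_mem hd
    rw [← nP_conj δ₁ δ (by simp [δ, δ₁]) (by simp [δ, δ₁]) (by simp [δ, δ₁]),
      ← nP_conj δ₂ δ₁ (by simp [δ₂, δ₁]) (by simp [δ₂, δ₁]) (by simp [δ₂, δ₁])] at this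
    simp only [N, mul_inv_rev, inv_inv, mul_assoc] at this ⊢
    exact this
  have e2 : (1 : Cfsg.PSU 3 F q)⁻¹ * (dP M δ)⁻¹ * 1 ∈ H := by simpa using H.inv_mem hd
  have habc : dP M δ₁ = (dP M δ₂)⁻¹ * (dP M δ)⁻¹ := by
    let m : Adm F q := ⟨fun i => δ₁.1 i * δ.1 i, fun i => by rw [mul_pow, δ₁.2.1, δ.2.1, one_mul], by
      linear_combination (δ.1 0 * δ.1 1 * δ.1 2) * δ₁.2.2 + δ.2.2⟩
    let z : Adm F q := ⟨fun _ => 1, fun i => by simp, by simp⟩
    have hz : dP M z = 1 := coe_eq_one M.card (c := 1) fun x => by rw [dgEl_act]; ext i; simp [z]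
    have : dP M z = dP M δ₂ * dP M m := dP_mul δ₂ m z fun i => by
      fin_cases i <;> simp [z, m, δ, δ₁, δ₂] <;> linear_combination -hdet
    rw [hz, dP_mul δ₁ δ m fun i => rfl] at this
    rw [eq_mul_inv_iff_mul_eq, eq_inv_iff_mul_eq_one, mul_eq_one_comm]
    exact this.symm
  obtain ⟨e, he0, he1, he2⟩ := C.bin.triangle e0 e1 e2 habc
  -- `e` fixes the base point
  have f1 : act M.card e (act M.card N A₀) = act M.card N A₀ := act_conj'' M _ _ (hfixa _ he0)
  have f2 : act M.card e (act M.card (N * N) A₀) = act M.card (N * N) A₀ :=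
    act_conj'' M _ _ (hfixa _ he1)
  have p1 : ∀ k : Cfsg.SU 3 F q, act M.card (k : Cfsg.PSU 3 F q) A₀ =
      IsoLine.mk (suAct k (rVec F)) (suAct_ne_zero k (rVec_ne M.card))
        ((suAct_herm k _ _).trans (rVec_iso M.card M.two)) := fun k => by
    rw [act_coe, aPt, IsoLine.smul_mk]
  let n : Cfsg.SU 3 F q := cycEl
  have hv1 : suAct n (rVec F) = ![0, 1, 1] := by rw [cycEl_act]; simp [rVec]
  have hv2 : suAct (n * n) (rVec F) = ![1, 0, 1] := by rw [suAct_mul, hv1, cycEl_act]; simp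
  have hne : act M.card N A₀ ≠ act M.card (N * N) A₀ := by
    show act M.card (n : Cfsg.PSU 3 F q) A₀ ≠ act M.card ((n * n : Cfsg.SU 3 F q) : Cfsg.PSU 3 F q) A₀
    rw [p1, p1, Ne, IsoLine.mk_eq_iff, hv1, hv2]
    rintro ⟨k, hk⟩
    have := congrFun hk 1
    simp at this
  obtain ⟨γ', hγa, hγb⟩ := exists_map_pair M.card M.two hl hne
  obtain ⟨γ, rfl⟩ := QuotientGroup.mk_surjective γ'
  obtain ⟨ε, rfl⟩ := QuotientGroup.mk_surjective e
  have hmem : ((γ⁻¹ * ε * γ : Cfsg.SU 3 F q) : Cfsg.PSU 3 F q) ∈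
      cj ((γ : Cfsg.PSU 3 F q)⁻¹ * N) H := by
    rw [mem_cj, QuotientGroup.mk_mul, QuotientGroup.mk_mul, QuotientGroup.mk_inv]
    convert he0 using 1
    group
  have huniq' : ∀ p, Full M (cj ((γ : Cfsg.PSU 3 F q)⁻¹ * N) H) p →
      p = act M.card ((γ : Cfsg.PSU 3 F q)⁻¹ * N) A₀ := fun p hp => by
    rw [← act_act_inv M.card ((γ : Cfsg.PSU 3 F q)⁻¹ * N) p, full_cj] at hp
    rw [← huniq _ hp, act_act_inv]
  obtain ⟨lam', ν', hr', hs', -⟩ := eigen_eq hl (C.conj _) huniq' hmem (by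
      rw [← act_coe M.card, QuotientGroup.mk_mul, QuotientGroup.mk_mul, QuotientGroup.mk_inv]
      refine act_conj' M _ _ ?_
      rw [hγa, f1]) (by
      rw [← act_coe M.card, QuotientGroup.mk_mul, QuotientGroup.mk_mul, QuotientGroup.mk_inv]
      refine act_conj' M _ _ ?_
      rw [hγb, f2])
  have key : ∀ v w : Fin 3 → F, v ≠ 0 → (∃ k : F, k • w = suAct γ v) →
      suAct (γ⁻¹ * ε * γ) v = lam' • v → suAct ε w = lam' • w := by
    rintro v w hv ⟨k, hk⟩ h
    have h' := congrArg (suAct γ) h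
    rw [← suAct_mul, show γ * (γ⁻¹ * ε * γ) = ε * γ by group, suAct_mul, suAct_smul, ← hk,
      suAct_smul, smul_comm] at h'
    have hk0 : k ≠ 0 := fun h0 => suAct_ne_zero γ hv (by rw [← hk, h0, zero_smul])
    exact smul_right_injective _ hk0 h'
  have hw1 : suAct ε ![0, 1, 1] = lam' • ![0, 1, 1] := key _ _ (rVec_ne M.card) (by
    have h := hγa
    rw [show N = (n : Cfsg.PSU 3 F q) from rfl, p1, p1, IsoLine.mk_eq_iff, hv1] at h
    exact h) hr'
  have hw2 : suAct ε ![1, 0, 1] = lam' • ![1, 0, 1] := key _ _ (sVec_ne M.card M.two hl) (by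
    have h := hγb
    rw [show N * N = ((n * n : Cfsg.SU 3 F q) : Cfsg.PSU 3 F q) from rfl, p1, act_coe, bPt,
      IsoLine.smul_mk, IsoLine.mk_eq_iff, hv2] at h
    exact h) hs'
  have hea : act M.card (ε : Cfsg.PSU 3 F q) A₀ = A₀ := by
    rw [p1, aPt, IsoLine.mk_eq_iff]
    refine ⟨lam', ?_⟩
    have hsum : rVec F = ![0, 1, 1] + ![1, 0, 1] := by
      ext i
      fin_cases i <;> simp [rVec]
      linear_combination -M.two
    rw [hsum, suAct_add, hw1, hw2, smul_add]
  have hda' : act M.card (dP M δ₁) A₀ = A₀ := by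
    have h := hfixa _ he2
    rw [inv_one, one_mul, mul_one, act_mul] at h
    conv_rhs => rw [← hea]
    rw [← h, act_act_inv]
    rw [h]
  rw [dP, p1, aPt, IsoLine.mk_eq_iff, dgEl_act] at hda'
  obtain ⟨k, hk⟩ := hda'
  have k0 := congrFun hk 0
  have k1 := congrFun hk 1
  simp [δ₁, rVec] at k0 k1
  exact hνl (k0.symm.trans k1)

include hl in
/-- If the base point is the only full point, `H` is the set of involutions at it with `1`. -/
theorem Ctx.mem_iff (C : Ctx M H) (ha : Full M H A₀) (huniq : ∀ p, Full M H p → p = A₀)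
    (x : Cfsg.PSU 3 F q) : x ∈ H ↔ x * x = 1 ∧ act M.card x A₀ = A₀ := by
  classical
  refine ⟨fun hx => ?_, fun h => ha x h.1 h.2⟩
  have hfixa : ∀ h ∈ H, act M.card h A₀ = A₀ := fun h hh => huniq _ (full_smul hh ha)
  refine ⟨?_, hfixa x hx⟩
  -- no element fixes a second point
  have htwo : ∀ d ∈ H, ∀ p, p ≠ A₀ → act M.card d p = p → d = 1 := by
    intro d hd p hp hdp
    obtain ⟨v, rfl⟩ := exists_unip_move M.card M.two hl hp
    have huniq' : ∀ r, Full M (cj (U v)⁻¹ H) r → r = A₀ := fun r hr => by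
      rw [← act_inv_act M.card (U v) r, full_cj] at hr
      have := huniq _ hr
      rw [← act_inv_act M.card (U v) r, this, act_inv M.card (unip_fix M.card M.two v)]
    have h := no_fix_base hl (C.conj _) huniq' (by
      have := (full_cj (g := (U v)⁻¹)).2 ha
      rwa [act_inv M.card (unip_fix M.card M.two v)] at this)
      (d := (U v)⁻¹ * d * U v) (by
        rw [mem_cj, inv_inv]; convert hd using 1; group) (act_conj' M _ _ hdp)
    exact (BinaryPSL.conj_eq_one_iff _ _).1 h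
  -- every element is a 2-element
  have hQ : ∀ h ∈ H, ∃ u, U u = h := by
    intro h hh
    obtain ⟨k, hk⟩ : ∃ k, orderOf h = 2 ^ k := by
      by_contra hno
      push Not at hno
      obtain ⟨r, hr, hrd, hr2⟩ : ∃ r, r.Prime ∧ r ∣ orderOf h ∧ r ≠ 2 := by
        by_contra hall
        push Not at hall
        exact hno ((orderOf h).primeFactorsList.length)
          (Nat.eq_prime_pow_of_unique_prime_dvd (orderOf_pos h).ne' fun {d} hd hdd => hall d hd hdd)
      haveI := Fact.mk hr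
      set g := h ^ (orderOf h / r) with hg
      have hog : orderOf g = r := by
        rw [hg, orderOf_pow_of_dvd (Nat.div_pos (Nat.le_of_dvd (orderOf_pos h) hrd) hr.pos).ne'
          (Nat.div_dvd_of_dvd hrd), Nat.div_div_self hrd (orderOf_pos h).ne']
      have hgH : g ∈ H := H.pow_mem hh _
      have hga := hfixa g hgH
      haveI : Finite (IsoLine 3 F q) := Subtype.finite
      haveI := Fintype.ofFinite {p : IsoLine 3 F q // p ≠ A₀}
      have hcard : Fintype.card {p : IsoLine 3 F q // p ≠ A₀} = q ^ 3 := by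
        rw [← Nat.card_eq_fintype_card, ← card_sylThree (hF := M.card) (h2 := M.two)]
        refine (Nat.card_congr (Equiv.ofBijective
          (fun u : sylThree M.card M.two => (⟨act M.card (U u) B₀, fun h =>
            bPt_ne_aPt M.card M.two hl (act_inj M.card (U u) (h.trans (unip_fix M.card M.two u).symm))⟩ :
            {p : IsoLine 3 F q // p ≠ A₀})) ⟨fun u u' e => ?_, fun p => ?_⟩)).symm
        · have := unip_eq_one M.card M.two hl (u'⁻¹ * u) (by
            rw [map_mul, act_mul, Subtype.mk.inj e, map_inv, act_inv_act])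
          exact (inv_mul_eq_one.1 this).symm
        · obtain ⟨u, hu⟩ := exists_unip_move M.card M.two hl p.2
          exact ⟨u, Subtype.ext hu⟩
      let σ : Equiv.Perm {p : IsoLine 3 F q // p ≠ A₀} :=
        (psuHom M.card g).subtypePerm fun p => by
          show act M.card g p ≠ A₀ ↔ p ≠ A₀
          exact not_congr ⟨fun e => act_inj M.card g (e.trans hga.symm), fun e => e ▸ hga⟩
      have hσ : σ ^ r ^ 1 = 1 := by
        rw [pow_one, Equiv.Perm.subtypePerm_pow]
        ext p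
        show ((psuHom M.card g) ^ r) p.1 = p.1
        rw [← map_pow, ← hog, pow_orderOf_eq_one, map_one]
        rfl
      obtain ⟨⟨p, hp⟩, hfix⟩ := Equiv.Perm.exists_fixed_point_of_prime (p := r) (n := 1) (by
        obtain ⟨n, hn, hq⟩ := M.big
        rw [hcard, hq, ← pow_mul]
        exact fun hd => hr2 ((Nat.prime_dvd_prime_iff_eq hr Nat.prime_two).1 (hr.dvd_of_dvd_pow hd))) hσ
      have := htwo g hgH p hp (congrArg Subtype.val hfix)
      rw [this, orderOf_one] at hog
      exact hr.ne_one hog.symm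
    exact mem_unip M.card M.two hl (k := k) (by rw [← hk, pow_orderOf_eq_one]) (hfixa h hh)
  obtain ⟨u, rfl⟩ := hQ x hx
  by_contra hne
  have hu : coordA u ≠ 0 := fun h => hne (by
    rw [← map_mul, (Unitary.sq_eq_one_iff u).2 h, map_one])
  obtain ⟨g, hga, hg3, hug⟩ := exists_cube M hl u hu
  obtain ⟨x₀, hx₀⟩ : ∃ x₀, x₀ = U u := ⟨_, rfl⟩
  rw [← hx₀] at hx hug
  have t0 : (1 : Cfsg.PSU 3 F q)⁻¹ * x₀ * 1 ∈ H := by simpa using hx
  have t1 : (g * g)⁻¹ * (g * g * x₀⁻¹ * (g * g)⁻¹) * (g * g) ∈ H := by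
    convert H.inv_mem hx using 1; group
  have t2 : g⁻¹ * (g * x₀⁻¹ * g⁻¹) * g ∈ H := by convert H.inv_mem hx using 1; group
  have habc : x₀ = g * g * x₀⁻¹ * (g * g)⁻¹ * (g * x₀⁻¹ * g⁻¹) := by
    rw [pow_succ, pow_succ, pow_one] at hug hg3
    have h1 : x₀ * (g * x₀ * g⁻¹ * (g * g * x₀ * (g * g)⁻¹)) = 1 := by
      calc _ = x₀ * g * (x₀ * g) * (x₀ * g) * (g * g * g)⁻¹ := by group
        _ = 1 := by rw [hug, hg3, inv_one, one_mul]
    refine (eq_inv_of_mul_eq_one_left h1).trans ?_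
    simp only [mul_inv_rev, inv_inv, mul_assoc]
  obtain ⟨e, he0, he1, he2⟩ := C.bin.triangle t0 t1 t2 habc
  simp only [inv_one, one_mul, mul_one] at he0
  have hne2 : act M.card (g * g) A₀ ≠ A₀ := fun h => hga (by
    calc act M.card g A₀ = act M.card g (act M.card (g * g) A₀) := by rw [h]
      _ = act M.card (g * g * g) A₀ := by rw [← act_mul, ← mul_assoc]
      _ = A₀ := by
        rw [pow_succ, pow_succ, pow_one] at hg3
        rw [hg3, act_one])
  have he : e = 1 := htwo e he0 _ hne2 (act_conj'' M _ _ (hfixa _ he1))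
  rw [he, inv_one, one_mul] at he2
  have hxu : x₀ = 1 := htwo x₀ hx _ hga (act_conj'' M _ _ (hfixa _ he2))
  rw [← hx₀, hxu] at hne
  exact hne (one_mul 1)

end Cfsg.Agent.BinaryOneClass
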